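import Groth.Agent.DeRhamSh.K644.KapTop

/-!
# Generalized fractions on schemes
-/

set_option autoImplicit false

open CategoryTheory CategoryTheory.Limits AlgebraicGeometry TopologicalSpace Opposite K644.Kap

universe u

namespace K644.Fr

variable {X : Scheme.{u}}

/-- Restriction of functions. -/
noncomputable abbrev rr {U V : X.Opens} (h : V ≤ U) : Γ(X, U) →+* Γ(X, V) := (X.presheaf.map (homOfLE h).op).hom

/-- Restriction of sections of a module. -/
noncomputable abbrev mr (M : X.Modules) {U V : X.Opens} (h : V ≤ U) : Γ(M, U) →+ Γ(M, V) :=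
  (M.presheaf.map (homOfLE h).op).hom

theorem mr_smul (M : X.Modules) {U V : X.Opens} (h : V ≤ U) (r : Γ(X, U)) (m : Γ(M, U)) :
    mr M h (r • m) = rr h r • mr M h m := Scheme.Modules.map_smul M (homOfLE h) r m

theorem mr_mr (M : X.Modules) {U V W : X.Opens} (h : V ≤ U) (h' : W ≤ V) (m : Γ(M, U)) :
    mr M h' (mr M h m) = mr M (h'.trans h) m :=
  (ConcreteCategory.congr_hom (M.presheaf.map_comp (homOfLE h).op (homOfLE h').op) m).symm

theorem rr_rr {U V W : X.Opens} (h : V ≤ U) (h' : W ≤ V) (m : Γ(X, U)) :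
    rr h' (rr h m) = rr (h'.trans h) m :=
  (ConcreteCategory.congr_hom (X.presheaf.map_comp (homOfLE h).op (homOfLE h').op) m).symm

theorem mr_refl (M : X.Modules) {U : X.Opens} (m : Γ(M, U)) : mr M (le_refl U) m = m :=
  ConcreteCategory.congr_hom (M.presheaf.map_id (op U)) m

theorem rr_refl {U : X.Opens} (m : Γ(X, U)) : rr (le_refl U) m = m :=
  ConcreteCategory.congr_hom (X.presheaf.map_id (op U)) m

theorem mem_dd {Y : Type u} [TopologicalSpace Y] (O : Opens Y) (l : List (Opens Y)) (p : Y) :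
    p ∈ dd O l ↔ p ∈ O ∧ ∀ V ∈ l, p ∈ V := by
  induction l generalizing O with
  | nil => simp [dd]
  | cons V l ih =>
    rw [dd, ih]
    simp only [Opens.mem_inf, List.mem_cons, forall_eq_or_imp]
    tauto

/-- A generalized fraction datum: `O` an open, `t` functions on `O` whose common zero set is the complement of `N`. -/
structure Dat (X : Scheme.{u}) (n : ℕ) where
  O : X.Opens
  N : X.Opens
  t : Fin n → Γ(X, O)
  h1 : ∀ i, X.basicOpen (t i) ≤ N
  h2 : ⊤ ≤ O ⊔ N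
  h3 : ∀ p, p ∈ O → p ∈ N → ∃ i, p ∈ X.basicOpen (t i)

namespace Dat

variable {n : ℕ} (d : Dat X n)

/-- The list of opens. -/
noncomputable def l : List X.Opens := List.ofFn fun i => X.basicOpen (d.t i)

theorem l_length : d.l.length = n := List.length_ofFn

theorem mem_l {V : X.Opens} : V ∈ d.l ↔ ∃ i, X.basicOpen (d.t i) = V := by
  rw [l, List.mem_ofFn]

/-- The datum on the underlying space. -/
noncomputable def cv : Cv X.toTopCat where
  O := d.O
  N := d.N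
  l := d.l
  h1 := by
    refine inf_le_right.trans (Kap.sup_le fun V hV => ?_)
    obtain ⟨i, rfl⟩ := d.mem_l.1 hV
    exact d.h1 i
  h2 := d.h2
  h3 := by
    intro p hp
    obtain ⟨i, hi⟩ := d.h3 p hp.1 hp.2
    exact Kap.le_sup_of_mem (d.mem_l.2 ⟨i, rfl⟩) hi

/-- The intersection. -/
noncomputable def Q : X.Opens := dd d.O d.l

theorem Q_le : d.Q ≤ d.O := dd_le _ _

theorem Q_le_basicOpen (i : Fin n) : d.Q ≤ X.basicOpen (d.t i) := dd_le_mem _ _ (d.mem_l.2 ⟨i, rfl⟩)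

theorem le_Q {U : X.Opens} (h : U ≤ d.O) (h' : ∀ i, U ≤ X.basicOpen (d.t i)) : U ≤ d.Q :=
  le_dd h fun V hV => by
    obtain ⟨i, rfl⟩ := d.mem_l.1 hV
    exact h' i

theorem mem_Q {p : X} : p ∈ d.Q ↔ p ∈ d.O ∧ ∀ i, p ∈ X.basicOpen (d.t i) := by
  rw [Q, mem_dd]
  refine and_congr_right fun _ => ⟨fun h i => h _ (d.mem_l.2 ⟨i, rfl⟩), fun h V hV => ?_⟩
  obtain ⟨i, rfl⟩ := d.mem_l.1 hV
  exact h i

/-- The class of a section over the intersection. -/
noncomputable def cls (M : X.Modules) : Γ(M, d.Q) →+ Coh.HH X M n :=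
  hc d.cv n d.l_length (F := Coh.toAb M)

theorem isUnit_t (i : Fin n) : IsUnit (rr d.Q_le (d.t i)) := by
  have h := RingedSpace.isUnit_res_basicOpen X.toRingedSpace (d.t i)
  have h2 := h.map (rr (X := X) (show d.Q ≤ X.basicOpen (d.t i) from d.Q_le_basicOpen i))
  have h3 := rr_rr (X := X) (show X.basicOpen (d.t i) ≤ d.O from X.basicOpen_le _) (d.Q_le_basicOpen i) (d.t i)
  rw [← h3]
  exact h2

/-- The product of the denominators, as a unit. -/
noncomputable def pu : Γ(X, d.Q)ˣ := ∏ i, (d.isUnit_t i).unit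

theorem pu_coe : (d.pu : Γ(X, d.Q)) = rr d.Q_le (∏ i, d.t i) := by
  rw [pu, map_prod, Units.coe_prod]
  rfl

/-- `ω ↦ ω / ∏ t`. -/
noncomputable def dv (M : X.Modules) : Γ(M, d.O) →+ Γ(M, d.Q) :=
  (DistribSMul.toAddMonoidHom Γ(M, d.Q) (((d.pu)⁻¹ : Γ(X, d.Q)ˣ) : Γ(X, d.Q))).comp (mr M d.Q_le)

theorem dv_apply (M : X.Modules) (ω : Γ(M, d.O)) :
    d.dv M ω = (((d.pu)⁻¹ : Γ(X, d.Q)ˣ) : Γ(X, d.Q)) • mr M d.Q_le ω := rfl

theorem smul_dv (M : X.Modules) (ω : Γ(M, d.O)) : rr d.Q_le (∏ i, d.t i) • d.dv M ω = mr M d.Q_le ω := by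
  rw [dv_apply, ← pu_coe, smul_smul, Units.mul_inv, one_smul]

theorem eq_of_smul (M : X.Modules) {μ ν : Γ(M, d.Q)}
    (h : rr d.Q_le (∏ i, d.t i) • μ = rr d.Q_le (∏ i, d.t i) • ν) : μ = ν := by
  rw [← pu_coe] at h
  have := congrArg (fun x => (((d.pu)⁻¹ : Γ(X, d.Q)ˣ) : Γ(X, d.Q)) • x) h
  simpa only [smul_smul, Units.inv_mul, one_smul] using this

theorem dv_eq (M : X.Modules) {ω : Γ(M, d.O)} {μ : Γ(M, d.Q)}
    (h : rr d.Q_le (∏ i, d.t i) • μ = mr M d.Q_le ω) : d.dv M ω = μ :=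
  d.eq_of_smul M ((d.smul_dv M ω).trans h.symm)

/-- The class `[ω / t_1 … t_n]`. -/
noncomputable def fr (M : X.Modules) : Γ(M, d.O) →+ Coh.HH X M n := (d.cls M).comp (d.dv M)

theorem fr_apply (M : X.Modules) (ω : Γ(M, d.O)) : d.fr M ω = d.cls M (d.dv M ω) := rfl

/-- Functoriality of the classes on one scheme. -/
theorem cls_le (d' : Dat X n) (hO : d'.O ≤ d.O) (hN : d'.N ≤ d.N)
    (ht : ∀ i, X.basicOpen (d'.t i) ≤ X.basicOpen (d.t i)) (M : X.Modules) (μ : Γ(M, d.Q)) :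
    d.cls M μ = d'.cls M (mr M (d.le_Q (d'.Q_le.trans hO) fun i => (d'.Q_le_basicOpen i).trans (ht i)) μ) :=
  hc_mono d'.cv d.cv n d'.l_length d.l_length hO hN (by
    change List.Forall₂ _ (List.ofFn _) (List.ofFn _)
    rw [List.forall₂_iff_get]
    refine ⟨by simp, fun i h1 h2 => ?_⟩
    simp only [List.get_ofFn]
    exact inf_le_right.trans (ht _)) (F := Coh.toAb M) μ

theorem basicOpen_le_of_eq {U V : X.Opens} (h : V ≤ U) (t : Γ(X, U)) (y t' : Γ(X, V)) (ht : t' = y * rr h t) :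
    X.basicOpen t' ≤ X.basicOpen t := by
  rw [ht, X.basicOpen_mul]
  refine inf_le_right.trans ?_
  have := X.basicOpen_res t (homOfLE h).op
  exact this.le.trans inf_le_right

/-- Multiplying denominators and numerator, and shrinking the open set. -/
theorem fr_le (d' : Dat X n) (hO : d'.O ≤ d.O) (hN : d'.N ≤ d.N) (y : Fin n → Γ(X, d'.O))
    (ht : ∀ i, d'.t i = y i * rr hO (d.t i)) (M : X.Modules) (ω : Γ(M, d.O)) :
    d.fr M ω = d'.fr M ((∏ i, y i) • mr M hO ω) := by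
  have ht' : ∀ i, X.basicOpen (d'.t i) ≤ X.basicOpen (d.t i) := fun i => basicOpen_le_of_eq hO _ _ _ (ht i)
  rw [fr_apply, fr_apply, d.cls_le d' hO hN ht']
  congr 1
  symm
  apply d'.dv_eq
  have hQ : d'.Q ≤ d.Q := d.le_Q (d'.Q_le.trans hO) fun i => (d'.Q_le_basicOpen i).trans (ht' i)
  have h1 := congrArg (mr M hQ) (d.smul_dv M ω)
  rw [mr_smul, rr_rr, mr_mr] at h1
  have h2 : rr d'.Q_le (∏ i, d'.t i) = rr d'.Q_le (∏ i, y i) * rr (hQ.trans d.Q_le) (∏ i, d.t i) := by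
    rw [Finset.prod_congr rfl fun i _ => ht i, Finset.prod_mul_distrib, map_mul, ← map_prod, rr_rr]
  rw [h2, mul_smul, h1, mr_smul, mr_mr]

/-- Vanishing: sections extending over the `j`-th divisor. -/
theorem cls_eq_zero (M : X.Modules) (j : Fin n) (μ : Γ(M, d.Q)) (Q' : X.Opens) (hQ : d.Q ≤ Q')
    (hQ' : ∀ U : X.Opens, U ≤ d.O → (∀ i, i ≠ j → U ≤ X.basicOpen (d.t i)) → U ≤ Q') (μ' : Γ(M, Q'))
    (hμ : mr M hQ μ' = μ) : d.cls M μ = 0 := by
  let f : Fin n → X.Opens := fun i => X.basicOpen (d.t i)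
  have hl : d.l = (List.ofFn f).take j ++ f j :: (List.ofFn f).drop (j + 1) := by
    have h1 : (j : ℕ) < (List.ofFn f).length := by simp
    have h2 := List.take_append_drop (j : ℕ) (List.ofFn f)
    rw [List.drop_eq_getElem_cons h1] at h2
    have h3 : (List.ofFn f)[(j : ℕ)] = f j := by simp
    rw [h3] at h2
    exact h2.symm
  have hd : dd d.O ((List.ofFn f).take j ++ (List.ofFn f).drop (j + 1)) ≤ Q' := by
    refine hQ' _ (dd_le _ _) fun i hi => dd_le_mem _ _ ?_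
    rw [List.mem_append]
    rcases lt_or_gt_of_ne (fun h => hi (Fin.ext h) : (i : ℕ) ≠ j) with h | h
    · left
      rw [List.mem_take_iff_getElem]
      exact ⟨i, by simpa using h, by simp [f]⟩
    · right
      rw [List.mem_drop_iff_getElem]
      refine ⟨i - (j + 1), ?_, ?_⟩
      · simp only [List.length_ofFn]
        have := i.isLt
        omega
      · simp only [List.getElem_ofFn, f]
        congr 2
        ext
        simp only
        omega
  have hd2 : dd d.O d.l ≤ dd d.O ((List.ofFn f).take j ++ (List.ofFn f).drop (j + 1)) := by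
    rw [hl]
    exact ZF.dd_append_le _ _ _ _
  have h := hc_eq_zero d.cv n d.l_length (F := Coh.toAb M) hl hd2 (mr M hd μ')
  refine Eq.trans ?_ h
  change hc d.cv n d.l_length (F := Coh.toAb M) μ = _
  congr 1
  rw [← hμ]
  exact (mr_mr M hd hd2 μ').symm

theorem isUnit_rr {U V : X.Opens} (h : V ≤ U) (t : Γ(X, U)) (h' : V ≤ X.basicOpen t) : IsUnit (rr h t) := by
  have h1 := (RingedSpace.isUnit_res_basicOpen X.toRingedSpace t).map (rr (X := X) h')
  rw [← rr_rr (X := X) (X.basicOpen_le t) h' t]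
  exact h1

/-- A multiple of one of the denominators has class zero. -/
theorem fr_smul_t (M : X.Modules) (j : Fin n) (ω : Γ(M, d.O)) : d.fr M (d.t j • ω) = 0 := by
  let Q' : X.Opens := d.O ⊓ (Finset.univ.erase j).inf fun i => X.basicOpen (d.t i)
  have hQO : Q' ≤ d.O := inf_le_left
  have hQ' : ∀ U : X.Opens, U ≤ d.O → (∀ i, i ≠ j → U ≤ X.basicOpen (d.t i)) → U ≤ Q' := fun U h1 h2 =>
    le_inf h1 (Finset.le_inf fun i hi => h2 i (Finset.ne_of_mem_erase hi))
  have hu : IsUnit (rr hQO (∏ i ∈ Finset.univ.erase j, d.t i)) := by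
    rw [map_prod, IsUnit.prod_iff]
    intro i hi
    exact isUnit_rr hQO _ (inf_le_right.trans (Finset.inf_le hi))
  obtain ⟨v, hv⟩ := hu
  have hQ : d.Q ≤ Q' := hQ' _ d.Q_le fun i _ => d.Q_le_basicOpen i
  refine d.cls_eq_zero M j _ Q' hQ hQ' (((v⁻¹ : Γ(X, Q')ˣ) : Γ(X, Q')) • mr M hQO ω) ?_
  symm
  apply d.dv_eq
  have e1 : ∏ i, d.t i = d.t j * ∏ i ∈ Finset.univ.erase j, d.t i := (Finset.mul_prod_erase _ _ (Finset.mem_univ j)).symm
  have e2 : rr d.Q_le (∏ i ∈ Finset.univ.erase j, d.t i) = rr hQ (v : Γ(X, Q')) := by rw [hv, rr_rr]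
  rw [e1, map_mul, e2, mr_smul, mr_mr, smul_smul, mul_assoc, ← map_mul, Units.mul_inv, map_one, mul_one, mr_smul]

/-- Linear maps. -/
theorem mapH_fr {M M' : X.Modules} (φ : M ⟶ M') (ω : Γ(M, d.O)) :
    CohPull.mapH φ n (d.fr M ω) = d.fr M' (φ.app d.O ω) := by
  rw [fr_apply, fr_apply]
  refine (map_hc d.cv n d.l_length (F := Coh.toAb M) (G := Coh.toAb M')
    ((SheafOfModules.toSheaf X.ringCatSheaf).map φ) (d.dv M ω)).trans ?_
  change hc d.cv n d.l_length (F := Coh.toAb M') (φ.app d.Q (d.dv M ω)) = hc d.cv n d.l_length (F := Coh.toAb M') _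
  congr 1
  symm
  apply d.dv_eq
  rw [← Scheme.Modules.Hom.app_smul, smul_dv]
  exact ConcreteCategory.congr_hom (φ.mapPresheaf.naturality (homOfLE d.Q_le).op) ω

/-- Multiplication by global functions. -/
theorem smul_fr (M : X.Modules) (r : Coh.Γtop X) (ω : Γ(M, d.O)) :
    r • d.fr M ω = d.fr M ((show Γ(X, d.O) from Coh.resTop X (op d.O) r) • ω) := by
  rw [fr_apply, fr_apply]
  refine (map_hc d.cv n d.l_length (F := Coh.toAb M) (G := Coh.toAb M) (Coh.smulAb M r) (d.dv M ω)).trans ?_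
  change hc d.cv n d.l_length (F := Coh.toAb M) ((show Γ(X, d.Q) from Coh.resTop X (op d.Q) r) • (d.dv M ω)) =
    hc d.cv n d.l_length (F := Coh.toAb M) _
  congr 1
  symm
  apply d.dv_eq
  rw [smul_comm, smul_dv, mr_smul]
  congr 1
  exact (Coh.resTop_comp (op d.O) (op d.Q) (homOfLE d.Q_le).op r).symm

/-- **Pull-back.** -/
theorem pm_fr {X' : Scheme.{u}} (g : X' ⟶ X) {M : X.Modules} {M' : X'.Modules}
    (φ : M ⟶ (Scheme.Modules.pushforward g).obj M') (d' : Dat X' n) (hO : d'.O ≤ g ⁻¹ᵁ d.O) (hN : d'.N ≤ g ⁻¹ᵁ d.N)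
    (y : Fin n → Γ(X', d'.O)) (ht : ∀ i, d'.t i = y i * rr hO (g.app d.O (d.t i))) (ω : Γ(M, d.O)) :
    K56.PMap.pm g.base (G := Coh.toAb M) (H := Coh.toAb M') ((SheafOfModules.toSheaf X.ringCatSheaf).map φ) n
      (d.fr M ω) = d'.fr M' ((∏ i, y i) • mr M' hO (show Γ(M', g ⁻¹ᵁ d.O) from φ.app d.O ω)) := by
  have ht' : ∀ i, X'.basicOpen (d'.t i) ≤ g ⁻¹ᵁ X.basicOpen (d.t i) := fun i => by
    rw [g.preimage_basicOpen]
    exact basicOpen_le_of_eq hO _ _ _ (ht i)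
  have hQ : d'.Q ≤ g ⁻¹ᵁ d.Q := fun p hp => by
    rw [d'.mem_Q] at hp
    exact d.mem_Q.2 ⟨hO hp.1, fun i => ht' i (hp.2 i)⟩
  have h := pm_hc g.base d.cv d'.cv n d.l_length d'.l_length (G := Coh.toAb M) (H := Coh.toAb M')
    ((SheafOfModules.toSheaf X.ringCatSheaf).map φ) hO hN (by
      change List.Forall₂ _ (List.ofFn _) (List.ofFn _)
      rw [List.forall₂_iff_get]
      refine ⟨by simp, fun i h1 h2 => ?_⟩
      simp only [List.get_ofFn]
      exact inf_le_right.trans (ht' _)) (d.dv M ω)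
  rw [fr_apply, fr_apply]
  refine h.trans ?_
  change hc d'.cv n d'.l_length (F := Coh.toAb M') (mr M' hQ (show Γ(M', g ⁻¹ᵁ d.Q) from φ.app d.Q (d.dv M ω))) =
    hc d'.cv n d'.l_length (F := Coh.toAb M') _
  congr 1
  symm
  apply d'.dv_eq
  have e1 : (show Γ(M', g ⁻¹ᵁ d.Q) from φ.app d.Q (rr d.Q_le (∏ i, d.t i) • d.dv M ω)) =
      g.app d.Q (rr d.Q_le (∏ i, d.t i)) • (show Γ(M', g ⁻¹ᵁ d.Q) from φ.app d.Q (d.dv M ω)) :=
    Scheme.Modules.Hom.app_smul φ _ _
  rw [smul_dv] at e1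
  have e2 : (show Γ(M', g ⁻¹ᵁ d.Q) from φ.app d.Q (mr M d.Q_le ω)) =
      mr M' (show g ⁻¹ᵁ d.Q ≤ g ⁻¹ᵁ d.O from fun p hp => d.Q_le hp) (show Γ(M', g ⁻¹ᵁ d.O) from φ.app d.O ω) :=
    ConcreteCategory.congr_hom (φ.mapPresheaf.naturality (homOfLE d.Q_le).op) ω
  have e3 : g.app d.Q (rr d.Q_le (∏ i, d.t i)) =
      rr (show g ⁻¹ᵁ d.Q ≤ g ⁻¹ᵁ d.O from fun p hp => d.Q_le hp) (g.app d.O (∏ i, d.t i)) :=
    ConcreteCategory.congr_hom (g.naturality (homOfLE d.Q_le).op) _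
  have h2 : rr d'.Q_le (∏ i, d'.t i) = rr d'.Q_le (∏ i, y i) * rr hQ (g.app d.Q (rr d.Q_le (∏ i, d.t i))) := by
    rw [e3, rr_rr, Finset.prod_congr rfl fun i _ => ht i, Finset.prod_mul_distrib, map_mul, ← map_prod, ← map_prod,
      rr_rr]
  rw [h2, mul_smul, ← mr_smul, ← e1, e2, mr_mr, mr_smul, mr_mr]

end Dat

/-! ### Unbundled form -/

section Unb

variable {n : ℕ}

/-- `O` is an open neighbourhood of the closed set `Nᶜ`, which is the zero set of `t` in `O`. -/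
structure Valid (O N : X.Opens) (t : Fin n → Γ(X, O)) : Prop where
  h1 : ∀ i, X.basicOpen (t i) ≤ N
  h2 : ⊤ ≤ O ⊔ N
  h3 : ∀ p, p ∈ O → p ∈ N → ∃ i, p ∈ X.basicOpen (t i)

/-- The datum. -/
@[simps]
def Valid.dat {O N : X.Opens} {t : Fin n → Γ(X, O)} (h : Valid O N t) : Dat X n := ⟨O, N, t, h.h1, h.h2, h.h3⟩

/-- The class `[ω / t_1 … t_n]`. -/
noncomputable def fv {O N : X.Opens} {t : Fin n → Γ(X, O)} (h : Valid O N t) (M : X.Modules) :
    Γ(M, O) →+ Coh.HH X M n := h.dat.fr M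

variable {O N O' N' : X.Opens} {t : Fin n → Γ(X, O)}

theorem fv_le (h : Valid O N t) {t' : Fin n → Γ(X, O')} (h' : Valid O' N' t') (hO : O' ≤ O) (hN : N' ≤ N)
    (y : Fin n → Γ(X, O')) (ht : ∀ i, t' i = y i * rr hO (t i)) (M : X.Modules) (ω : Γ(M, O)) :
    fv h M ω = fv h' M ((∏ i, y i) • mr M hO ω) := h.dat.fr_le h'.dat hO hN y ht M ω

theorem fv_mul (h : Valid O N t) {t' : Fin n → Γ(X, O)} (h' : Valid O N t') (y : Fin n → Γ(X, O))
    (ht : ∀ i, t' i = y i * t i) (M : X.Modules) (ω : Γ(M, O)) :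
    fv h M ω = fv h' M ((∏ i, y i) • ω) := by
  rw [fv_le h h' le_rfl le_rfl y (fun i => by rw [rr_refl]; exact ht i) M ω, mr_refl]

theorem Valid.res (h : Valid O N t) (hO : O' ≤ O) (h2 : ⊤ ≤ O' ⊔ N) : Valid O' N (fun i => rr hO (t i)) where
  h1 i := by
    rw [rr, X.basicOpen_res]
    exact inf_le_right.trans (h.h1 i)
  h2 := h2
  h3 p hp hpN := by
    obtain ⟨i, hi⟩ := h.h3 p (hO hp) hpN
    refine ⟨i, ?_⟩
    rw [rr, X.basicOpen_res]
    exact ⟨hp, hi⟩

theorem fv_res (h : Valid O N t) (hO : O' ≤ O) {t' : Fin n → Γ(X, O')} (h' : Valid O' N t')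
    (ht : ∀ i, t' i = rr hO (t i)) (M : X.Modules) (ω : Γ(M, O)) :
    fv h M ω = fv h' M (mr M hO ω) := by
  rw [fv_le h h' hO le_rfl (fun _ => 1) (fun i => by rw [one_mul, ht]) M ω, Finset.prod_const_one, one_smul]

theorem fv_smul_t (h : Valid O N t) (M : X.Modules) (j : Fin n) (ω : Γ(M, O)) : fv h M (t j • ω) = 0 :=
  h.dat.fr_smul_t M j ω

theorem mapH_fv (h : Valid O N t) {M M' : X.Modules} (φ : M ⟶ M') (ω : Γ(M, O)) :
    CohPull.mapH φ n (fv h M ω) = fv h M' (φ.app O ω) := h.dat.mapH_fr φ ω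

theorem smul_fv (h : Valid O N t) (M : X.Modules) (r : Coh.Γtop X) (ω : Γ(M, O)) :
    r • fv h M ω = fv h M ((show Γ(X, O) from Coh.resTop X (op O) r) • ω) := h.dat.smul_fr M r ω

theorem pm_fv {X' : Scheme.{u}} (g : X' ⟶ X) {M : X.Modules} {M' : X'.Modules}
    (φ : M ⟶ (Scheme.Modules.pushforward g).obj M') (h : Valid O N t) {O₁ N₁ : X'.Opens}
    {t₁ : Fin n → Γ(X', O₁)} (h' : Valid O₁ N₁ t₁) (hO : O₁ ≤ g ⁻¹ᵁ O) (hN : N₁ ≤ g ⁻¹ᵁ N)
    (y : Fin n → Γ(X', O₁)) (ht : ∀ i, t₁ i = y i * rr hO (g.app O (t i))) (ω : Γ(M, O)) :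
    K56.PMap.pm g.base (G := Coh.toAb M) (H := Coh.toAb M') ((SheafOfModules.toSheaf X.ringCatSheaf).map φ) n
      (fv h M ω) = fv h' M' ((∏ i, y i) • mr M' hO (show Γ(M', g ⁻¹ᵁ O) from φ.app O ω)) :=
  h.dat.pm_fr g φ h'.dat hO hN y ht ω

/-- **Change of one denominator.** -/
theorem fv_change (h : Valid O N t) (i : Fin n) (y c : Γ(X, O)) (α : Fin n → Γ(X, O)) (β : Γ(X, O))
    (hy : y - c * t i = ∑ k ∈ Finset.univ.erase i, α k * t k + β * (t i * y))
    (h' : Valid O N (Function.update t i y)) (M : X.Modules)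
    (ω : Γ(M, O)) : fv h M ω = fv h' M (c • ω) := by
  have h'' : Valid O N (Function.update t i (t i * y)) := by
    refine ⟨fun k => ?_, h.h2, fun p hp hpN => ?_⟩
    · by_cases hk : k = i
      · subst hk
        rw [Function.update_self, X.basicOpen_mul]
        exact inf_le_left.trans (h.h1 k)
      · rw [Function.update_of_ne hk]
        exact h.h1 k
    · obtain ⟨k, hk⟩ := h.h3 p hp hpN
      by_cases hki : k = i
      · subst hki
        obtain ⟨m, hm⟩ := h'.h3 p hp hpN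
        by_cases hmk : m = k
        · subst hmk
          rw [Function.update_self] at hm
          refine ⟨m, ?_⟩
          rw [Function.update_self, X.basicOpen_mul]
          exact ⟨hk, hm⟩
        · rw [Function.update_of_ne hmk] at hm
          exact ⟨m, by rwa [Function.update_of_ne hmk]⟩
      · exact ⟨k, by rwa [Function.update_of_ne hki]⟩
  have hp : ∀ a : Γ(X, O), ∏ k, Function.update (fun _ => (1 : Γ(X, O))) i a k = a := by
    intro a
    rw [Finset.prod_update_of_mem (Finset.mem_univ i)]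
    simp
  have e1 : fv h M ω = fv h'' M (y • ω) := by
    rw [fv_mul h h'' (Function.update (fun _ => 1) i y) (fun k => by
      by_cases hk : k = i
      · subst hk
        rw [Function.update_self, Function.update_self, mul_comm]
      · rw [Function.update_of_ne hk, Function.update_of_ne hk, one_mul]) M ω, hp]
  have e2 : fv h' M (c • ω) = fv h'' M (t i • c • ω) := by
    rw [fv_mul h' h'' (Function.update (fun _ => 1) i (t i)) (fun k => by
      by_cases hk : k = i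
      · subst hk
        rw [Function.update_self, Function.update_self, Function.update_self]
      · rw [Function.update_of_ne hk, Function.update_of_ne hk, Function.update_of_ne hk, one_mul]) M (c • ω), hp]
  rw [e1, e2, ← sub_eq_zero, ← map_sub, smul_smul, ← sub_smul, mul_comm (t i) c, hy, add_smul, map_add,
    Finset.sum_smul, map_sum]
  have e3 : fv h'' M ((β * (t i * y)) • ω) = 0 := by
    have := fv_smul_t h'' M i (β • ω)
    rw [smul_smul, Function.update_self, mul_comm (t i * y) β] at this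
    exact this
  rw [e3, add_zero]
  refine Finset.sum_eq_zero fun k hk => ?_
  have := fv_smul_t h'' M k (α k • ω)
  rw [smul_smul, Function.update_of_ne (Finset.ne_of_mem_erase hk), mul_comm (t k) (α k)] at this
  exact this

theorem Valid.pow (h : Valid O N t) (c : Fin n → ℕ) : Valid O N (fun i => t i ^ (c i + 1)) where
  h1 i := by
    rw [X.basicOpen_pow _ (Nat.succ_pos _)]
    exact h.h1 i
  h2 := h.h2
  h3 p hp hpN := by
    obtain ⟨i, hi⟩ := h.h3 p hp hpN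
    refine ⟨i, ?_⟩
    rwa [X.basicOpen_pow _ (Nat.succ_pos _)]

/-- `(z - s) ∑ z^(m-j) s^j = z^(m+1)` for `s^(m+1) = 0`. -/
theorem sub_mul_geom {R : Type*} [CommRing R] (z s : R) (m : ℕ) (hs : s ^ (m + 1) = 0) :
    (∑ j : Fin (m + 1), z ^ (m - (j : ℕ)) * s ^ (j : ℕ)) * (z - s) = z ^ (m + 1) := by
  have h := (Commute.all s z).mul_geom_sum₂ (m + 1)
  have h2 : (∑ i ∈ Finset.range (m + 1), s ^ i * z ^ (m + 1 - 1 - i)) =
      ∑ j : Fin (m + 1), z ^ (m - (j : ℕ)) * s ^ (j : ℕ) := by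
    rw [Finset.sum_range]
    refine Finset.sum_congr rfl fun j _ => ?_
    rw [mul_comm]
    rfl
  rw [h2, hs, zero_sub] at h
  linear_combination (-1 : R) * h

theorem basicOpen_sub_eq {O : X.Opens} (z s : Γ(X, O)) (m : ℕ) (hs : s ^ (m + 1) = 0) :
    X.basicOpen (z - s) = X.basicOpen z := by
  have key : ∀ z s : Γ(X, O), s ^ (m + 1) = 0 → X.basicOpen z ≤ X.basicOpen (z - s) := by
    intro z s hs
    have h := sub_mul_geom z s m hs
    rw [← X.basicOpen_pow z (Nat.succ_pos m), Nat.succ_eq_add_one, ← h, X.basicOpen_mul]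
    exact inf_le_right
  refine le_antisymm ?_ (key z s hs)
  have := key (z - s) (-s) (by rw [neg_pow, hs, mul_zero])
  rwa [sub_neg_eq_add, sub_add_cancel] at this

theorem Valid.sub (h : Valid O N t) (s : Fin n → Γ(X, O)) (m : ℕ) (hs : ∀ i, s i ^ (m + 1) = 0) :
    Valid O N (fun i => t i - s i) where
  h1 i := by
    rw [basicOpen_sub_eq _ _ m (hs i)]
    exact h.h1 i
  h2 := h.h2
  h3 p hp hpN := by
    obtain ⟨i, hi⟩ := h.h3 p hp hpN
    refine ⟨i, ?_⟩
    rwa [basicOpen_sub_eq _ _ m (hs i)]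

/-- **Taylor expansion.** -/
theorem fv_taylor (h : Valid O N t) (s : Fin n → Γ(X, O)) (m : ℕ) (hs : ∀ i, s i ^ (m + 1) = 0)
    (h' : Valid O N (fun i => t i - s i)) (M : X.Modules) (ω : Γ(M, O)) :
    fv h' M ω = ∑ c : Fin n → Fin (m + 1), fv (h.pow fun i => (c i : ℕ)) M ((∏ i, s i ^ (c i : ℕ)) • ω) := by
  rw [fv_mul h' (h.pow fun _ => m) (fun i => ∑ j : Fin (m + 1), t i ^ (m - (j : ℕ)) * s i ^ (j : ℕ))
    (fun i => (sub_mul_geom _ _ m (hs i)).symm) M ω, Finset.prod_univ_sum, Finset.sum_smul, map_sum,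
    Fintype.piFinset_univ]
  refine Finset.sum_congr rfl fun c _ => ?_
  rw [fv_mul (h.pow fun i => (c i : ℕ)) (h.pow fun _ => m) (fun i => t i ^ (m - (c i : ℕ))) (fun i => by
    rw [← pow_add]
    congr 1
    have := (c i).isLt
    omega), smul_smul, Finset.prod_mul_distrib]

end Unb

end K644.Fr
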