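import Groth.Agent.DeRhamSh.K644.KapPull
import Groth.Prelude.Def_FreeSh
import Groth.Prelude.Def_CohPull
import Groth.Prelude.Def_E1Deg2
import Groth.Agent.Coherent.K56.PMap
import Mathlib.Topology.Sheaves.MayerVietoris

/-!
# Classes of generalized fractions on a topological space
-/

set_option autoImplicit false

open CategoryTheory CategoryTheory.Limits CategoryTheory.Abelian TopologicalSpace Opposite

universe u v

namespace K644.Kap

section Ab

variable {C : Type u} [Category.{v} C] [Abelian C] {X₁ X₂ X₃ X₄ : C} {t : X₁ ⟶ X₂} {l : X₁ ⟶ X₃} {r : X₂ ⟶ X₄}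
  {b : X₃ ⟶ X₄}

theorem isPullback_of_isPushout (h : IsPushout t l r b) [Mono t] : IsPullback t l r b := by
  have hex := h.exact_shortComplex
  have e1 : h.shortComplex.f ≫ biprod.fst = t := biprod.lift_fst _ _
  have e2 : h.shortComplex.f ≫ biprod.snd = -l := biprod.lift_snd _ _
  have hm : Mono h.shortComplex.f := by
    have : Mono (h.shortComplex.f ≫ biprod.fst) := e1.symm ▸ (inferInstance : Mono t)
    exact mono_of_mono _ biprod.fst
  have key : ∀ {T : C} (a : T ⟶ X₂) (c : T ⟶ X₃), a ≫ r = c ≫ b → ∃ u : T ⟶ X₁, u ≫ t = a ∧ u ≫ l = c := by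
    intro T a c hac
    let k : T ⟶ h.shortComplex.X₂ := biprod.lift a (-c)
    have h0 : k ≫ h.shortComplex.g = 0 := by
      change biprod.lift a (-c) ≫ biprod.desc r b = 0
      rw [biprod.lift_desc, hac, Preadditive.neg_comp, add_neg_cancel]
    have h3 : hex.lift k h0 ≫ h.shortComplex.f = k := hex.lift_f _ _
    refine ⟨hex.lift k h0, ?_, ?_⟩
    · have h4 : (hex.lift k h0 ≫ h.shortComplex.f) ≫ biprod.fst = a :=
        (congrArg (fun t => t ≫ biprod.fst) h3).trans (biprod.lift_fst _ _)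
      exact ((Category.assoc _ _ _).trans (congrArg (fun t => hex.lift k h0 ≫ t) e1)).symm.trans h4
    · have h4 : (hex.lift k h0 ≫ h.shortComplex.f) ≫ biprod.snd = -c :=
        (congrArg (fun t => t ≫ biprod.snd) h3).trans (biprod.lift_snd _ _)
      have h5 := ((Category.assoc _ _ _).trans (congrArg (fun t => hex.lift k h0 ≫ t) e2)).symm.trans h4
      exact neg_inj.1 ((Preadditive.comp_neg (hex.lift k h0) l).symm.trans h5)
  refine ⟨⟨h.w⟩, ⟨PullbackCone.IsLimit.mk _ (fun s => (key s.fst s.snd s.condition).choose)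
    (fun s => (key s.fst s.snd s.condition).choose_spec.1) (fun s => (key s.fst s.snd s.condition).choose_spec.2)
    fun s m h1 _ => ?_⟩⟩
  rw [← cancel_mono t, h1]
  exact (key s.fst s.snd s.condition).choose_spec.1.symm

end Ab

section Top

variable (X : TopCat.{u})

instance mono_freeSheafMap {U V : Opens X} (h : U ⟶ V) :
    Mono (CohCx.freeSheafMap (Opens.grothendieckTopology X) h) := by
  have : Mono h := ⟨fun _ _ _ => Subsingleton.elim _ _⟩
  dsimp only [CohCx.freeSheafMap]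
  infer_instance

theorem subsingleton_bot (F : CohTop.Ab X) : Subsingleton (F.obj.obj (op (⊥ : Opens X))) := by
  have h : IsTerminal (F.obj.obj (op (⊥ : Opens X))) := TopCat.Sheaf.isTerminalOfEmpty F
  exact AddCommGrpCat.subsingleton_of_isZero ((isZero_zero _).of_iso (h.uniqueUpToIso (isZero_zero _).isTerminal))

/-- The system of extensions by zero of the constant sheaf. -/
noncomputable def zf : ZF (Opens X) (CohTop.Ab X) where
  Z U := CohCx.freeSheaf (Opens.grothendieckTopology X) U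
  m h := CohCx.freeSheafMap (Opens.grothendieckTopology X) (homOfLE h)
  m_refl U := CohFree.freeSheafMap_id _ U
  m_comp h h' := (CohFree.freeSheafMap_comp _ (homOfLE h) (homOfLE h')).symm
  mono h := mono_freeSheafMap X _
  bot := by
    rw [IsZero.iff_id_eq_zero]
    have := subsingleton_bot X (CohCx.freeSheaf (Opens.grothendieckTopology X) (⊥ : Opens X))
    exact (CohFree.homEquivSect (Opens.grothendieckTopology X) (⊥ : Opens X) _).injective (Subsingleton.elim _ _)
  po U V := (Opens.mayerVietorisSquare U V).isPushoutAddCommGrpFreeSheaf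
  pb U V := by
    have := mono_freeSheafMap X (homOfLE (inf_le_left : U ⊓ V ≤ U))
    exact isPullback_of_isPushout (Opens.mayerVietorisSquare U V).isPushoutAddCommGrpFreeSheaf

variable {X}

/-- Sections as morphisms. -/
noncomputable abbrev se (U : Opens X) (F : CohTop.Ab X) : F.obj.obj (op U) ≃+ ((zf X).Z U ⟶ F) :=
  (CohFree.homEquivSect (Opens.grothendieckTopology X) U F).symm

/-- The restriction of a section. -/
noncomputable abbrev rs {F : CohTop.Ab X} {U V : Opens X} (h : V ≤ U) (s : F.obj.obj (op U)) : F.obj.obj (op V) :=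
  (F.obj.map (homOfLE h).op).hom s

theorem se_rs {F : CohTop.Ab X} {U V : Opens X} (h : V ≤ U) (s : F.obj.obj (op U)) :
    se V F (rs h s) = (zf X).m h ≫ se U F s := by
  apply (se V F).symm.injective
  rw [AddEquiv.symm_apply_apply]
  refine Eq.trans ?_ (CohFree.evalGen_freeSheafMap_comp (Opens.grothendieckTopology X) (homOfLE h) F (se U F s)).symm
  exact congrArg _ (CohFree.evalGen_ofSect _ _ _ _).symm

theorem se_comp {F G : CohTop.Ab X} (φ : F ⟶ G) {U : Opens X} (s : F.obj.obj (op U)) :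
    se U F s ≫ φ = se U G ((φ.hom.app (op U)).hom s) := by
  apply (se U G).symm.injective
  rw [AddEquiv.symm_apply_apply]
  change (φ.hom.app (op U)).hom (CohFree.evalGen _ U F (CohFree.ofSect _ U F s)) = _
  rw [CohFree.evalGen_ofSect]

/-! ### The constant sheaf -/

/-- The group map `ULift ℤ → F(⊤)` given by a section. -/
noncomputable def zsec {F : CohTop.Ab X} (s : F.obj.obj (op (⊤ : Opens X))) :
    AddCommGrpCat.of (ULift.{u} ℤ) ⟶ F.obj.obj (op (⊤ : Opens X)) :=
  AddCommGrpCat.ofHom ((zmultiplesHom _ s).comp AddEquiv.ulift.toAddMonoidHom)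

theorem zsec_one {F : CohTop.Ab X} (s : F.obj.obj (op (⊤ : Opens X))) : (zsec s).hom (ULift.up 1) = s := by
  change (zmultiplesHom _ s) 1 = s
  simp

theorem zhom_ext {A : AddCommGrpCat.{u}} {a b : AddCommGrpCat.of (ULift.{u} ℤ) ⟶ A}
    (h : a.hom (ULift.up 1) = b.hom (ULift.up 1)) : a = b := by
  apply AddCommGrpCat.hom_ext
  have h' : a.hom.comp AddEquiv.ulift.symm.toAddMonoidHom = b.hom.comp AddEquiv.ulift.symm.toAddMonoidHom :=
    AddMonoidHom.ext_int h
  ext x
  exact DFunLike.congr_fun h' x.down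

/-- `ℤ_X ⟶ Z_⊤`. -/
noncomputable def jj (X : TopCat.{u}) : CohTop.const X (ULift.{u} ℤ) ⟶ (zf X).Z ⊤ :=
  ((CohPull.adjZ X).homEquiv _ _).symm (zsec (CohFree.gen (Opens.grothendieckTopology X) (⊤ : Opens X)))

theorem adj_comp {A : AddCommGrpCat.{u}} {F G : CohTop.Ab X} (a : A ⟶ F.obj.obj (op (⊤ : Opens X))) (φ : F ⟶ G) :
    ((CohPull.adjZ X).homEquiv A F).symm a ≫ φ =
      ((CohPull.adjZ X).homEquiv A G).symm (a ≫ φ.hom.app (op (⊤ : Opens X))) :=
  (Adjunction.homEquiv_naturality_right_symm (CohPull.adjZ X) a φ).symm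

theorem zsec_comp {F G : CohTop.Ab X} (s : F.obj.obj (op (⊤ : Opens X))) (φ : F ⟶ G) :
    zsec s ≫ φ.hom.app (op (⊤ : Opens X)) = zsec ((φ.hom.app (op (⊤ : Opens X))).hom s) := by
  apply zhom_ext
  rw [zsec_one]
  change (φ.hom.app (op (⊤ : Opens X))).hom ((zsec s).hom (ULift.up 1)) = _
  rw [zsec_one]

theorem jj_se {F : CohTop.Ab X} (s : F.obj.obj (op (⊤ : Opens X))) :
    jj X ≫ se ⊤ F s = ((CohPull.adjZ X).homEquiv _ _).symm (zsec s) := by
  rw [jj, adj_comp, zsec_comp]
  congr 2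
  exact CohFree.evalGen_ofSect _ _ _ _

instance : IsIso (jj X) := by
  let one : (CohTop.const X (ULift.{u} ℤ)).obj.obj (op (⊤ : Opens X)) := (CohPull.oneSec X).hom (ULift.up 1)
  have hone : zsec one = CohPull.oneSec X := zhom_ext (zsec_one _)
  refine ⟨se ⊤ _ one, ?_, ?_⟩
  · rw [jj_se, hone, CohPull.oneSec, Equiv.symm_apply_apply]
  · apply (se (⊤ : Opens X) ((zf X).Z ⊤)).symm.injective
    rw [se_comp, AddEquiv.symm_apply_apply]
    have h1 : CohPull.oneSec X ≫ (jj X).hom.app (op (⊤ : Opens X)) =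
        zsec (CohFree.gen (Opens.grothendieckTopology X) (⊤ : Opens X)) := by
      apply ((CohPull.adjZ X).homEquiv _ _).symm.injective
      rw [← adj_comp, CohPull.oneSec, Equiv.symm_apply_apply, Category.id_comp, jj]
      rfl
    have h2 := congrArg (fun t => t.hom (ULift.up 1)) h1
    exact h2.trans (zsec_one _)

/-- The pulled back section. -/
noncomputable abbrev ups {Y : TopCat.{u}} (f : X ⟶ Y) {G : CohTop.Ab Y} {H : CohTop.Ab X}
    (ψ : G ⟶ (CohTop.push f).obj H) {U : Opens Y} (s : G.obj.obj (op U)) : H.obj.obj (op ((Opens.map f).obj U)) :=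
  (ψ.hom.app (op U)).hom s

theorem se_inj {F : CohTop.Ab X} {U : Opens X} {a b : (zf X).Z U ⟶ F}
    (h : (a.hom.app (op U)).hom (CohFree.gen _ U) = (b.hom.app (op U)).hom (CohFree.gen _ U)) : a = b :=
  (se U F).symm.injective h

theorem se_gen {F : CohTop.Ab X} {U : Opens X} (s : F.obj.obj (op U)) :
    ((se U F s).hom.app (op U)).hom (CohFree.gen _ U) = s := CohFree.evalGen_ofSect _ _ _ _

/-- `Z (f⁻¹ U) ⟶ f⁻¹ (Z U)`. -/
noncomputable def al {Y : TopCat.{u}} (f : X ⟶ Y) (U : Opens Y) :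
    (zf X).Z ((Opens.map f).obj U) ⟶ (CohPull.inv f).obj ((zf Y).Z U) :=
  se ((Opens.map f).obj U) _ (ups f ((CohPull.invPushAdj f).unit.app ((zf Y).Z U))
    (CohFree.gen (Opens.grothendieckTopology Y) U))

theorem al_se {Y : TopCat.{u}} (f : X ⟶ Y) {U : Opens Y} {G : CohTop.Ab Y} {H : CohTop.Ab X}
    (ψ : G ⟶ (CohTop.push f).obj H) (s : G.obj.obj (op U)) :
    al f U ≫ (CohPull.inv f).map (se U G s) ≫ K56.PMap.tr f ψ = se _ H (ups f ψ s) := by
  rw [al, ← Category.assoc, se_comp, se_comp]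
  congr 1
  have h1 := K56.PMap.unit_natural f (se U G s)
  have h2 := congrArg (fun t => (t.hom.app (op U)).hom (CohFree.gen (Opens.grothendieckTopology Y) U)) h1
  have h3 := congrArg (fun t => (t.hom.app (op U)).hom s) (K56.PMap.unit_map_tr f ψ)
  refine Eq.trans ?_ h3
  have h4 : ((se U G s ≫ (CohPull.invPushAdj f).unit.app G).hom.app (op U)).hom
      (CohFree.gen (Opens.grothendieckTopology Y) U) = (((CohPull.invPushAdj f).unit.app G).hom.app (op U)).hom s :=
    congrArg (((CohPull.invPushAdj f).unit.app G).hom.app (op U)).hom (se_gen s)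
  exact congrArg ((K56.PMap.tr f ψ).hom.app (op ((Opens.map f).obj U))).hom (h2.symm.trans h4)

/-- The morphism of systems attached to a continuous map. -/
noncomputable def sm {Y : TopCat.{u}} (f : X ⟶ Y) : Sm (zf Y) (zf X) (CohPull.inv f) where
  φ U := (Opens.map f).obj U
  mono U V h := (Opens.map f).monotone h
  inf U V := le_rfl
  α U := al f U
  nat {U V} h := by
    have h1 := K56.PMap.unit_natural f ((zf Y).m h)
    have h2 := congrArg (fun t => (t.hom.app (op U)).hom (CohFree.gen (Opens.grothendieckTopology Y) U)) h1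
    rw [al, al, se_comp, ← se_rs]
    congr 1
    refine Eq.trans ?_ h2
    have h3 : (((zf Y).m h).hom.app (op U)).hom (CohFree.gen (Opens.grothendieckTopology Y) U) =
        rs h (CohFree.gen (Opens.grothendieckTopology Y) V) := CohFree.freeSheafMap_gen _ (homOfLE h)
    have h4 : (((zf Y).m h ≫ (CohPull.invPushAdj f).unit.app ((zf Y).Z V)).hom.app (op U)).hom
        (CohFree.gen (Opens.grothendieckTopology Y) U) =
        (((CohPull.invPushAdj f).unit.app ((zf Y).Z V)).hom.app (op U)).hom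
          (rs h (CohFree.gen (Opens.grothendieckTopology Y) V)) := congrArg _ h3
    rw [h4]
    exact (ConcreteCategory.congr_hom (((CohPull.invPushAdj f).unit.app ((zf Y).Z V)).hom.naturality
      (homOfLE h).op) (CohFree.gen (Opens.grothendieckTopology Y) V)).symm

/-- `al f ⊤` with its type normalized. -/
noncomputable def alt {Y : TopCat.{u}} (f : X ⟶ Y) : (zf X).Z ⊤ ⟶ (CohPull.inv f).obj ((zf Y).Z ⊤) := al f ⊤

theorem jj_al {Y : TopCat.{u}} (f : X ⟶ Y) :
    CohPull.oneTo f ≫ (CohPull.inv f).map (jj Y) = jj X ≫ alt f := by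
  change _ = jj X ≫ al f ⊤
  have h1 : jj X ≫ al f ⊤ = ((CohPull.adjZ X).homEquiv _ _).symm (zsec (ups f
      ((CohPull.invPushAdj f).unit.app ((zf Y).Z ⊤)) (CohFree.gen (Opens.grothendieckTopology Y) ⊤))) :=
    jj_se _
  rw [h1, CohPull.oneTo, adj_comp]
  congr 1
  apply zhom_ext
  rw [zsec_one]
  have h2 := K56.PMap.unit_natural f (jj Y)
  have h3 : ((jj Y).hom.app (op (⊤ : Opens Y))).hom ((CohPull.oneSec Y).hom (ULift.up 1)) =
      CohFree.gen (Opens.grothendieckTopology Y) ⊤ := by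
    have h1 : CohPull.oneSec Y ≫ (jj Y).hom.app (op (⊤ : Opens Y)) =
        zsec (CohFree.gen (Opens.grothendieckTopology Y) (⊤ : Opens Y)) := by
      apply ((CohPull.adjZ Y).homEquiv _ _).symm.injective
      rw [← adj_comp, CohPull.oneSec, Equiv.symm_apply_apply, Category.id_comp, jj]
      rfl
    have h2 := congrArg (fun t => t.hom (ULift.up 1)) h1
    exact h2.trans (zsec_one _)
  have h4 := congrArg (fun t => (t.hom.app (op (⊤ : Opens Y))).hom ((CohPull.oneSec Y).hom (ULift.up 1))) h2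
  refine h4.symm.trans ?_
  exact congrArg (((CohPull.invPushAdj f).unit.app ((zf Y).Z ⊤)).hom.app (op (⊤ : Opens Y))).hom h3

/-! ### The classes in `Sheaf.H` -/

/-- Data for a generalized fraction class on a space. -/
structure Cv (X : TopCat.{u}) where
  O : Opens X
  N : Opens X
  l : List (Opens X)
  h1 : O ⊓ sup l ≤ N
  h2 : ⊤ ≤ O ⊔ N
  h3 : O ⊓ N ≤ sup l

/-- The underlying datum. -/
def Cv.cov (c : Cv X) : Cov (Opens X) := ⟨⊤, c.O, c.N, c.l, le_top, c.h1, c.h2, c.h3⟩

/-- **The class of a section** over the intersection of the opens of `c`. -/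
noncomputable def hc (c : Cv X) (n : ℕ) (hn : c.l.length = n) {F : CohTop.Ab X} :
    F.obj.obj (op (dd c.O c.l)) →+ Sheaf.H F n :=
  (((Ext.mk₀ (jj X)).precomp F (show 0 + c.l.length = n by omega)).comp ((zf X).gcl c.cov)).comp
    (se (dd c.O c.l) F).toAddMonoidHom

theorem hc_def (c : Cv X) (n : ℕ) (hn : c.l.length = n) {F : CohTop.Ab X} (s : F.obj.obj (op (dd c.O c.l))) :
    hc c n hn s = (Ext.mk₀ (jj X)).comp ((zf X).gcl c.cov (se (dd c.O c.l) F s))
      (show 0 + c.l.length = n by omega) := rfl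

/-- Naturality in the sheaf. -/
theorem map_hc (c : Cv X) (n : ℕ) (hn : c.l.length = n) {F G : CohTop.Ab X} (φ : F ⟶ G)
    (s : F.obj.obj (op (dd c.O c.l))) :
    Sheaf.H.map φ n (hc c n hn s) = hc c n hn ((φ.hom.app _).hom s) := by
  subst hn
  change Ext.comp (hc c _ rfl s) (Ext.mk₀ φ) (add_zero _) = _
  have h := ((zf X).gcl_comp c.cov φ (se (dd c.O c.l) F s)).trans (congrArg _ (se_comp φ s))
  rw [hc_def, hc_def]
  exact (Ext.comp_assoc _ _ _ (zero_add c.l.length) (add_zero c.l.length) (by omega)).trans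
    (congrArg (fun t => (Ext.mk₀ (jj X)).comp t (zero_add c.l.length)) h)

/-- Functoriality in the datum. -/
theorem hc_mono (c c' : Cv X) (n : ℕ) (hn : c.l.length = n) (hn' : c'.l.length = n) {F : CohTop.Ab X}
    (h : c.O ≤ c'.O) (hN : c.N ≤ c'.N) (hl : List.Forall₂ (fun V V' => c.O ⊓ V ≤ V') c.l c'.l)
    (s : F.obj.obj (op (dd c'.O c'.l))) :
    hc c' n hn' s = hc c n hn (rs (dd_le_dd h hl) s) := by
  have h1 := (zf X).gcl_mono c.cov c'.cov (le_refl _) h (inf_le_right.trans hN) hl (se (dd c'.O c'.l) F s)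
  rw [hc_def, hc_def, se_rs]
  have h2 : ∀ (p q : ℕ) (hpq : 0 + p = q) (x : Ext ((zf X).Z ⊤) F p) (y : Ext ((zf X).Z ⊤) F q) (hp : 0 + p = n)
      (hq : 0 + q = n), (Ext.mk₀ ((zf X).m (le_refl (⊤ : Opens X)))).comp x hpq = y →
      (Ext.mk₀ (jj X)).comp x hp = (Ext.mk₀ (jj X)).comp y hq := by
    intro p q hpq x y hp hq hxy
    obtain rfl : p = q := by omega
    rw [← hxy, (zf X).m_refl, Ext.mk₀_id_comp]
  exact h2 _ _ _ _ _ _ _ h1

/-- Vanishing. -/
theorem hc_eq_zero (c : Cv X) (n : ℕ) (hn : c.l.length = n) {F : CohTop.Ab X} {V : Opens X} {l₁ l₂ : List (Opens X)}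
    (h : c.l = l₁ ++ V :: l₂) (hd : dd c.O c.l ≤ dd c.O (l₁ ++ l₂)) (s : F.obj.obj (op (dd c.O (l₁ ++ l₂)))) :
    hc c n hn (rs hd s) = 0 := by
  rw [hc_def, se_rs]
  have h1 := (zf X).gcl_eq_zero c.cov h (se _ F s) hd
  exact (congrArg (fun t => (Ext.mk₀ (jj X)).comp t (show 0 + c.l.length = n by omega)) h1).trans (Ext.comp_zero _ _ _ _ _)

/-- **Pull-back.** -/
theorem pm_hc {Y : TopCat.{u}} (f : X ⟶ Y) (c : Cv Y) (c' : Cv X) (n : ℕ) (hn : c.l.length = n) (hn' : c'.l.length = n)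
    {G : CohTop.Ab Y} {H : CohTop.Ab X} (ψ : G ⟶ (CohTop.push f).obj H)
    (h : c'.O ≤ (Opens.map f).obj c.O) (hN : c'.N ≤ (Opens.map f).obj c.N)
    (hl : List.Forall₂ (fun V' V => c'.O ⊓ V' ≤ (Opens.map f).obj V) c'.l c.l)
    (s : G.obj.obj (op (dd c.O c.l))) :
    K56.PMap.pm f ψ n (hc c n hn s) = hc c' n hn' (rs ((sm f).dd_le h hl) (ups f ψ s)) := by
  rw [K56.PMap.pm_apply, hc_def, hc_def]
  have h1 := (sm f).gcl_pull (c' := c'.cov) (c := c.cov) (le_refl (⊤ : Opens X)) h (inf_le_right.trans hN) hl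
    (se (dd c.O c.l) G s)
  have h2 : ((sm f).a ((sm f).dd_le h hl) ≫ (CohPull.inv f).map (se (dd c.O c.l) G s)) ≫ K56.PMap.tr f ψ =
      se (dd c'.O c'.l) H (rs ((sm f).dd_le h hl) (ups f ψ s)) := by
    rw [se_rs]
    refine (Category.assoc _ _ _).trans ((Category.assoc _ _ _).trans ?_)
    exact congrArg (fun t => (zf X).m _ ≫ t) (al_se f ψ s)
  have h3 : (sm f).a (le_refl (⊤ : Opens X)) = alt f := by
    refine Eq.trans ?_ (Category.id_comp _)
    exact congrArg (fun t => t ≫ al f ⊤) ((zf X).m_refl _)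
  have h4 : ∀ (p q : ℕ) (hpq : 0 + p = q) (x : Ext ((zf Y).Z ⊤) G p) (y : Ext ((zf X).Z ⊤) H q) (hp : 0 + p = n)
      (hq : 0 + q = n), ((Ext.mk₀ (alt f)).comp (Ext.mapExactFunctor (CohPull.inv f) x) hpq).comp
        (Ext.mk₀ (K56.PMap.tr f ψ)) (add_zero _) = y →
      (Ext.mk₀ (CohPull.oneTo f)).comp ((Ext.mapExactFunctor (CohPull.inv f) ((Ext.mk₀ (jj Y)).comp x hp)).comp
        (Ext.mk₀ (K56.PMap.tr f ψ)) (add_zero n)) (zero_add n) = (Ext.mk₀ (jj X)).comp y hq := by
    intro p q hpq x y hp hq hxy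
    obtain rfl : p = q := by omega
    obtain rfl : p = n := by omega
    rw [← hxy, Ext.mapExactFunctor_comp, Ext.mapExactFunctor_mk₀]
    rw [← Ext.comp_assoc _ _ _ (zero_add p) (add_zero p) (by omega),
      ← Ext.comp_assoc _ _ _ (zero_add 0) (zero_add p) (by omega), Ext.mk₀_comp_mk₀, jj_al,
      ← Ext.comp_assoc _ _ _ (zero_add p) (add_zero p) (by omega),
      ← Ext.comp_assoc _ _ _ (zero_add 0) (zero_add p) (by omega), Ext.mk₀_comp_mk₀]
  refine h4 _ _ (by rw [zero_add]; exact hn.trans hn'.symm) _ _ _ _ ?_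
  rw [← h3, ← h2]
  refine Eq.trans ?_ ((zf X).gcl_comp c'.cov (K56.PMap.tr f ψ) _)
  exact congrArg (fun t => Ext.comp t (Ext.mk₀ (K56.PMap.tr f ψ)) (add_zero _)) h1

/-- Surjectivity. -/
theorem hc_surjective (c : Cv X) (n : ℕ) (hn : c.l.length = n) (F : CohTop.Ab X)
    (h : ∀ T : List (Opens X), T.Sublist c.l → ∀ k, Subsingleton (Ext ((zf X).Z (dd c.O T)) F (k + 1)))
    (h0 : Subsingleton (Ext ((zf X).Z c.N) F n)) : Function.Surjective (hc c n hn (F := F)) := by
  subst hn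
  intro x
  obtain ⟨g, hg⟩ := (zf X).gcl_surjective c.cov le_top h h0
    ((Ext.mk₀ (inv (jj X))).comp x (zero_add c.l.length))
  refine ⟨(se (dd c.O c.l) F).symm g, ?_⟩
  rw [hc_def, AddEquiv.apply_symm_apply]
  refine (congrArg (fun t => (Ext.mk₀ (jj X)).comp t (zero_add c.l.length)) hg).trans ?_
  refine (Ext.comp_assoc (Ext.mk₀ (jj X)) (Ext.mk₀ (inv (jj X))) x (zero_add 0) (zero_add _) (by omega)).symm.trans ?_
  rw [Ext.mk₀_comp_mk₀, IsIso.hom_inv_id, Ext.mk₀_id_comp]

end Top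

end K644.Kap
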