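import Mathlib.Algebra.Homology.DerivedCategory.Ext.ExactSequences
import Mathlib.Algebra.Homology.DerivedCategory.Ext.Map
import Mathlib.CategoryTheory.Abelian.Exact
import Mathlib.CategoryTheory.Limits.Shapes.Pullback.IsPullback.Basic
import Mathlib.Order.Lattice

/-!
# Classes of generalized fractions, abstract part

`ZF L C`: a covariant system of objects `Z U` (`U` in a distributive lattice `L`; in the application `Z U` is
the extension by zero of the constant sheaf on an open set) with Mayer-Vietoris squares.  `Zq O U = Z O / Z (O ⊓ U)`.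
For a list `l` of elements, `cl l O : Hom(Z (O ⊓ ⋂ l), F) →+ Ext^n(Zq O (⋃ l), F)`.
-/

set_option autoImplicit false

open CategoryTheory CategoryTheory.Limits CategoryTheory.Abelian

universe w w' v u v' u'

namespace K644.Kap

/-- A system of objects indexed by a distributive lattice with Mayer-Vietoris squares. -/
structure ZF (L : Type*) [DistribLattice L] [OrderBot L] (C : Type u) [Category.{v} C] [Abelian C] where
  Z : L → C
  m : ∀ {U V : L}, U ≤ V → (Z U ⟶ Z V)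
  m_refl : ∀ U, m (le_refl U) = 𝟙 _
  m_comp : ∀ {U V W : L} (h : U ≤ V) (h' : V ≤ W), m h ≫ m h' = m (h.trans h')
  mono : ∀ {U V : L} (h : U ≤ V), Mono (m h)
  bot : IsZero (Z ⊥)
  pb : ∀ U V : L, IsPullback (m (inf_le_left : U ⊓ V ≤ U)) (m (inf_le_right : U ⊓ V ≤ V))
    (m (le_sup_left : U ≤ U ⊔ V)) (m le_sup_right)
  po : ∀ U V : L, IsPushout (m (inf_le_left : U ⊓ V ≤ U)) (m (inf_le_right : U ⊓ V ≤ V))
    (m (le_sup_left : U ≤ U ⊔ V)) (m le_sup_right)

variable {L : Type*} [DistribLattice L] [OrderBot L]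

/-- The union of a list. -/
def sup : List L → L
  | [] => ⊥
  | V :: l => sup l ⊔ V

/-- The intersection of `O` with a list. -/
def dd (O : L) : List L → L
  | [] => O
  | V :: l => dd (O ⊓ V) l

omit [OrderBot L] in
theorem dd_mono {O O' : L} (h : O ≤ O') (l : List L) : dd O l ≤ dd O' l := by
  induction l generalizing O O' with
  | nil => exact h
  | cons V l ih => exact ih (inf_le_inf_right V h)

omit [OrderBot L] in
theorem dd_le (O : L) (l : List L) : dd O l ≤ O := by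
  induction l generalizing O with
  | nil => exact le_rfl
  | cons V l ih => exact (ih _).trans inf_le_left

omit [OrderBot L] in
theorem dd_le_mem (O : L) (l : List L) {V : L} (hV : V ∈ l) : dd O l ≤ V := by
  induction l generalizing O with
  | nil => simp at hV
  | cons W l ih =>
    rcases List.mem_cons.1 hV with rfl | h
    · exact (dd_le (O ⊓ V) l).trans inf_le_right
    · exact ih _ h

omit [OrderBot L] in
theorem le_dd {O T : L} {l : List L} (h : T ≤ O) (hl : ∀ V ∈ l, T ≤ V) : T ≤ dd O l := by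
  induction l generalizing O with
  | nil => exact h
  | cons W l ih =>
    exact ih (le_inf h (hl W (List.mem_cons_self ..))) fun V hV => hl V (List.mem_cons_of_mem _ hV)

theorem le_sup_of_mem {l : List L} {V : L} (hV : V ∈ l) : V ≤ sup l := by
  induction l with
  | nil => simp at hV
  | cons W l ih =>
    rcases List.mem_cons.1 hV with rfl | h
    · exact le_sup_right
    · exact (ih h).trans le_sup_left

theorem sup_le {l : List L} {T : L} (h : ∀ V ∈ l, V ≤ T) : sup l ≤ T := by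
  induction l with
  | nil => exact bot_le
  | cons W l ih =>
    exact _root_.sup_le (ih fun V hV => h V (List.mem_cons_of_mem _ hV)) (h W (List.mem_cons_self ..))

namespace ZF

variable {C : Type u} [Category.{v} C] [Abelian C] (Z : ZF L C)

attribute [instance] ZF.mono

theorem m_congr {U V : L} (h h' : U ≤ V) : Z.m h = Z.m h' := rfl

@[reassoc]
theorem m_m {U V W : L} (h : U ≤ V) (h' : V ≤ W) : Z.m h ≫ Z.m h' = Z.m (h.trans h') := Z.m_comp h h'

theorem isIso_m {U V : L} (h : U = V) : IsIso (Z.m h.le) := by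
  subst h
  rw [Z.m_refl]
  infer_instance

/-- joint epimorphy -/
theorem hom_ext_sup {U V : L} {T : C} {f g : Z.Z (U ⊔ V) ⟶ T} (h1 : Z.m le_sup_left ≫ f = Z.m le_sup_left ≫ g)
    (h2 : Z.m le_sup_right ≫ f = Z.m le_sup_right ≫ g) : f = g := (Z.po U V).hom_ext h1 h2

theorem hom_ext_le {U V W : L} (hU : U ≤ W) (hV : V ≤ W) (h : W ≤ U ⊔ V) {T : C} {f g : Z.Z W ⟶ T}
    (h1 : Z.m hU ≫ f = Z.m hU ≫ g) (h2 : Z.m hV ≫ f = Z.m hV ≫ g) : f = g := by
  obtain rfl : W = U ⊔ V := le_antisymm h (_root_.sup_le hU hV)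
  exact Z.hom_ext_sup h1 h2

theorem comp_eq_zero_of_le {U V : L} (h : U ≤ V) {T : C} {f : Z.Z V ⟶ T} (hf : f = 0) : Z.m h ≫ f = 0 := by
  rw [hf, comp_zero]

/-- pullback property for `U, V ≤ W`. -/
theorem exists_lift {U V W : L} (hU : U ≤ W) (hV : V ≤ W) {T : C} (a : T ⟶ Z.Z U) (b : T ⟶ Z.Z V)
    (h : a ≫ Z.m hU = b ≫ Z.m hV) : ∃ c : T ⟶ Z.Z (U ⊓ V), c ≫ Z.m inf_le_left = a ∧ c ≫ Z.m inf_le_right = b := by
  have h' : a ≫ Z.m (le_sup_left : U ≤ U ⊔ V) = b ≫ Z.m le_sup_right := by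
    rw [← cancel_mono (Z.m (_root_.sup_le hU hV))]
    simpa [m_m] using h
  exact ⟨(Z.pb U V).lift a b h', (Z.pb U V).lift_fst _ _ _, (Z.pb U V).lift_snd _ _ _⟩

/-- The quotient `Z O / Z (O ⊓ U)`. -/
noncomputable def q (O U : L) : C := cokernel (Z.m (inf_le_left : O ⊓ U ≤ O))

/-- The projection. -/
noncomputable def pr (O U : L) : Z.Z O ⟶ Z.q O U := cokernel.π _

instance (O U : L) : Epi (Z.pr O U) := inferInstanceAs (Epi (cokernel.π _))

@[reassoc (attr := simp)]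
theorem m_pr (O U : L) : Z.m (inf_le_left : O ⊓ U ≤ O) ≫ Z.pr O U = 0 := cokernel.condition _

@[reassoc]
theorem m_pr_of_le {O U W : L} (h : W ≤ O) (h' : W ≤ U) : Z.m h ≫ Z.pr O U = 0 := by
  have : Z.m h = Z.m (le_inf h h') ≫ Z.m (inf_le_left : O ⊓ U ≤ O) := (Z.m_m _ _).symm
  rw [this, Category.assoc, m_pr, comp_zero]

/-- Morphisms out of the quotient. -/
noncomputable def qd {O U : L} {T : C} (f : Z.Z O ⟶ T) (h : Z.m (inf_le_left : O ⊓ U ≤ O) ≫ f = 0) : Z.q O U ⟶ T :=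
  cokernel.desc _ f h

@[reassoc (attr := simp)]
theorem pr_qd {O U : L} {T : C} (f : Z.Z O ⟶ T) (h : Z.m (inf_le_left : O ⊓ U ≤ O) ≫ f = 0) :
    Z.pr O U ≫ Z.qd f h = f := cokernel.π_desc _ _ _

theorem q_ext {O U : L} {T : C} {f g : Z.q O U ⟶ T} (h : Z.pr O U ≫ f = Z.pr O U ≫ g) : f = g :=
  (cancel_epi _).1 h

/-- Functoriality of the quotient. -/
noncomputable def qm {O U O' U' : L} (h : O ≤ O') (h' : O ⊓ U ≤ U') : Z.q O U ⟶ Z.q O' U' :=
  Z.qd (Z.m h ≫ Z.pr O' U') (by rw [m_m_assoc, m_pr_of_le]; exact h')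

@[reassoc (attr := simp)]
theorem pr_qm {O U O' U' : L} (h : O ≤ O') (h' : O ⊓ U ≤ U') : Z.pr O U ≫ Z.qm h h' = Z.m h ≫ Z.pr O' U' :=
  Z.pr_qd _ _

@[reassoc]
theorem qm_qm {O U O' U' O'' U'' : L} (h : O ≤ O') (h' : O ⊓ U ≤ U') (k : O' ≤ O'') (k' : O' ⊓ U' ≤ U'') :
    Z.qm h h' ≫ Z.qm k k' = Z.qm (h.trans k) ((le_inf (inf_le_left.trans h) h').trans k') := by
  apply Z.q_ext
  simp [m_m_assoc]

theorem qm_refl (O U : L) : Z.qm (le_refl O) (inf_le_right : O ⊓ U ≤ U) = 𝟙 _ := by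
  apply Z.q_ext
  simp [Z.m_refl]

/-- Excision. -/
theorem isIso_qm {O U O' U' : L} (h : O ≤ O') (h' : O ⊓ U ≤ U') (h1 : O' ≤ O ⊔ U') (h2 : O ⊓ U' ≤ U) :
    IsIso (Z.qm h h') := by
  -- inverse: `Z O' = Z (O ⊔ (O' ⊓ U')) → q O U`
  have hO' : O' = O ⊔ (O' ⊓ U') := by
    apply le_antisymm
    · rw [sup_inf_left]
      exact le_inf (le_sup_of_le_right le_rfl) h1
    · exact _root_.sup_le h inf_le_left
  have hz : Z.m (inf_le_left : O ⊓ (O' ⊓ U') ≤ O) ≫ Z.pr O U =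
      Z.m (inf_le_right : O ⊓ (O' ⊓ U') ≤ O' ⊓ U') ≫ (0 : Z.Z (O' ⊓ U') ⟶ Z.q O U) := by
    rw [comp_zero]
    exact Z.m_pr_of_le _ ((inf_le_inf_left O inf_le_right).trans h2)
  let g0 : Z.Z (O ⊔ (O' ⊓ U')) ⟶ Z.q O U := (Z.po O (O' ⊓ U')).desc (Z.pr O U) 0 hz
  have g0l : Z.m le_sup_left ≫ g0 = Z.pr O U := (Z.po O (O' ⊓ U')).inl_desc _ _ _
  have g0r : Z.m le_sup_right ≫ g0 = 0 := (Z.po O (O' ⊓ U')).inr_desc _ _ _
  let g : Z.Z O' ⟶ Z.q O U := Z.m hO'.le ≫ g0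
  have gl : Z.m h ≫ g = Z.pr O U := by
    rw [← g0l]
    exact Z.m_m_assoc _ _ _
  have gr : Z.m (inf_le_left : O' ⊓ U' ≤ O') ≫ g = 0 := by
    rw [← g0r]
    exact Z.m_m_assoc _ _ _
  refine ⟨Z.qd g gr, ?_, ?_⟩
  · apply Z.q_ext
    rw [pr_qm_assoc, pr_qd, gl, Category.comp_id]
  · apply Z.q_ext
    rw [pr_qd_assoc, Category.comp_id]
    refine Z.hom_ext_le h (inf_le_left : O' ⊓ U' ≤ O') hO'.le ?_ ?_
    · rw [← Category.assoc, gl, pr_qm]
    · rw [← Category.assoc, gr, zero_comp, m_pr]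

/-- The short exact sequence `0 → q (O ⊓ V) U → q O U → q O (U ⊔ V) → 0`. -/
noncomputable def sc (O U V : L) : ShortComplex C :=
  ShortComplex.mk (Z.qm (inf_le_left : O ⊓ V ≤ O) ((inf_le_right : (O ⊓ V) ⊓ U ≤ U)))
    (Z.qm (le_refl O) ((inf_le_right.trans le_sup_left : O ⊓ U ≤ U ⊔ V))) (by
      apply Z.q_ext
      rw [pr_qm_assoc, pr_qm, m_m_assoc, comp_zero]
      exact Z.m_pr_of_le _ (inf_le_right.trans le_sup_right))

instance epi_sc_g (O U V : L) : Epi (Z.sc O U V).g := by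
  have h : Epi (Z.pr O U ≫ (Z.sc O U V).g) := by
    have : Z.pr O U ≫ (Z.sc O U V).g = Z.pr O (U ⊔ V) := by
      refine (Z.pr_qm (le_refl O) (inf_le_right.trans le_sup_left : O ⊓ U ≤ U ⊔ V)).trans ?_
      rw [Z.m_refl, Category.id_comp]
    rw [this]
    exact inferInstanceAs (Epi (Z.pr O (U ⊔ V)))
  exact epi_of_epi (Z.pr O U) _

theorem se (O U V : L) : (Z.sc O U V).ShortExact where
  exact := by
    refine ShortComplex.exact_of_g_is_cokernel _ (CokernelCofork.IsColimit.ofπ' _ _ fun {T} k hk => ?_)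
    refine ⟨Z.qd (Z.pr O U ≫ k) ?_, ?_⟩
    · -- `O ⊓ (U ⊔ V) = (O ⊓ U) ⊔ (O ⊓ V)`
      refine Z.hom_ext_le (inf_le_inf_left O le_sup_left : O ⊓ U ≤ O ⊓ (U ⊔ V)) (inf_le_inf_left O le_sup_right :
        O ⊓ V ≤ O ⊓ (U ⊔ V)) (by rw [inf_sup_left]) ?_ ?_
      · rw [comp_zero, m_m_assoc, m_pr_assoc, zero_comp]
      · rw [comp_zero, m_m_assoc]
        exact ((Z.pr_qm_assoc (inf_le_left : O ⊓ V ≤ O) (inf_le_right : (O ⊓ V) ⊓ U ≤ U) k).symm.trans
          (congrArg (fun t => Z.pr (O ⊓ V) U ≫ t) hk)).trans comp_zero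
    · apply Z.q_ext
      change Z.pr O U ≫ Z.qm (le_refl O) (inf_le_right.trans le_sup_left : O ⊓ U ≤ U ⊔ V) ≫ _ = _
      rw [pr_qm_assoc, pr_qd, Z.m_refl, Category.id_comp]
  mono_f := by
    -- `P → A → q O U` is exact, `A = Z (O ⊓ V)`, `P = Z ((O ⊓ V) ⊓ U)`
    let S : ShortComplex C := ShortComplex.mk (Z.m (inf_le_left : (O ⊓ V) ⊓ U ≤ O ⊓ V))
      (Z.m (inf_le_left : O ⊓ V ≤ O) ≫ Z.pr O U) (by
        rw [m_m_assoc]
        exact Z.m_pr_of_le _ inf_le_right)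
    have hS : S.Exact := by
      refine ShortComplex.exact_of_f_is_kernel _ (KernelFork.IsLimit.ofι' _ _ fun {T} k hk => ?_)
      have hk' : (k ≫ Z.m (inf_le_left : O ⊓ V ≤ O)) ≫ Z.pr O U = 0 := by rw [Category.assoc]; exact hk
      -- `Z (O ⊓ U)` is the kernel of `Z O → q O U`
      let l : T ⟶ Z.Z (O ⊓ U) := (Abelian.monoIsKernelOfCokernel _ (colimit.isColimit
        (parallelPair (Z.m (inf_le_left : O ⊓ U ≤ O)) 0))).lift (KernelFork.ofι _ hk')
      have hl : l ≫ Z.m (inf_le_left : O ⊓ U ≤ O) = k ≫ Z.m (inf_le_left : O ⊓ V ≤ O) :=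
        (Abelian.monoIsKernelOfCokernel _ (colimit.isColimit
          (parallelPair (Z.m (inf_le_left : O ⊓ U ≤ O)) 0))).fac (KernelFork.ofι _ hk') WalkingParallelPair.zero
      have hex := Z.exists_lift (inf_le_left : O ⊓ V ≤ O) (inf_le_left : O ⊓ U ≤ O) k l hl.symm
      refine ⟨hex.choose ≫ Z.m (le_inf inf_le_left (inf_le_right.trans inf_le_right)), ?_⟩
      rw [Category.assoc]
      exact (congrArg _ (Z.m_m _ _)).trans hex.choose_spec.1
    have h2 := (S.exact_iff_mono_cokernel_desc).1 hS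
    have h3 : (Z.sc O U V).f = cokernel.desc S.f S.g S.zero := by
      apply Z.q_ext
      refine (Z.pr_qm (inf_le_left : O ⊓ V ≤ O) (inf_le_right : (O ⊓ V) ⊓ U ≤ U)).trans ?_
      exact (cokernel.π_desc S.f S.g S.zero).symm
    exact h3.symm ▸ h2
  epi_g := Z.epi_sc_g O U V

/-! ### The classes -/

theorem isZero_of_le {U : L} (h : U ≤ ⊥) : IsZero (Z.Z U) := by
  obtain rfl : U = ⊥ := le_bot_iff.1 h
  exact Z.bot

theorem m_bot_comp {O : L} {F : C} (s : Z.Z O ⟶ F) : Z.m (inf_le_left : O ⊓ ⊥ ≤ O) ≫ s = 0 :=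
  (Z.isZero_of_le inf_le_right).eq_of_src _ _

section Cl

variable [HasExt.{w} C]

/-- The extension class of `se`. -/
noncomputable abbrev ec (O U V : L) : Ext (Z.q O (U ⊔ V)) (Z.q (O ⊓ V) U) 1 := (Z.se O U V).extClass

/-- The class of a section `s : Z (dd O l) ⟶ F` in `Ext^n (q O (sup l), F)`. -/
noncomputable def cl {F : C} : ∀ (l : List L) (O : L), (Z.Z (dd O l) ⟶ F) →+ Ext (Z.q O (sup l)) F l.length
  | [], O =>
    { toFun := fun s => Ext.mk₀ (Z.qd s (Z.m_bot_comp s))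
      map_zero' := by
        rw [← Ext.mk₀_zero]
        congr 1
        apply Z.q_ext
        rw [pr_qd, comp_zero]
        rfl
      map_add' := fun s t => by
        rw [← Ext.mk₀_add]
        congr 1
        apply Z.q_ext
        rw [pr_qd, Preadditive.comp_add, pr_qd, pr_qd]
        rfl }
  | V :: l, O => ((Z.ec O (sup l) V).precomp F (Nat.add_comm 1 l.length)).comp (cl l (O ⊓ V))

theorem cl_nil {F : C} (O : L) (s : Z.Z O ⟶ F) : Z.cl [] O s = Ext.mk₀ (Z.qd s (Z.m_bot_comp s)) := rfl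

theorem cl_cons {F : C} (V : L) (l : List L) (O : L) (s : Z.Z (dd (O ⊓ V) l) ⟶ F) :
    Z.cl (V :: l) O s = (Z.ec O (sup l) V).comp (Z.cl l (O ⊓ V) s) (Nat.add_comm 1 l.length) := rfl

theorem cl_comp_nil {F G : C} (φ : F ⟶ G) (O : L) (s : Z.Z O ⟶ F) :
    (Z.cl [] O s).comp (Ext.mk₀ φ) (add_zero _) = Z.cl [] O (s ≫ φ) := by
  rw [cl_nil, cl_nil]
  refine (Ext.mk₀_comp_mk₀ _ _).trans (congrArg _ ?_)
  apply Z.q_ext
  exact (Z.pr_qd_assoc _ _ _).trans (Z.pr_qd _ _).symm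

/-- Naturality in the coefficients. -/
theorem cl_comp {F G : C} (φ : F ⟶ G) (l : List L) (O : L) (s : Z.Z (dd O l) ⟶ F) :
    (Z.cl l O s).comp (Ext.mk₀ φ) (add_zero _) = Z.cl l O (s ≫ φ) := by
  induction l generalizing O with
  | nil => exact Z.cl_comp_nil φ O s
  | cons V l ih =>
    change ((Z.ec O (sup l) V).comp (Z.cl l (O ⊓ V) s) (Nat.add_comm 1 l.length)).comp (Ext.mk₀ φ) (add_zero _) =
      (Z.ec O (sup l) V).comp (Z.cl l (O ⊓ V) (s ≫ φ)) (Nat.add_comm 1 l.length)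
    rw [← ih (O ⊓ V) s]
    exact Ext.comp_assoc _ _ _ _ _ (by simp [Nat.add_comm])

end Cl

end ZF

section Rel

omit [OrderBot L] in
theorem dd_le_dd {O O' : L} (h : O ≤ O') {l l' : List L} (hl : List.Forall₂ (fun V V' => O ⊓ V ≤ V') l l') :
    dd O l ≤ dd O' l' := by
  induction l generalizing O O' l' with
  | nil => cases hl; exact h
  | cons V l ih =>
    cases hl with
    | cons hV hl =>
      exact ih (le_inf (inf_le_left.trans h) hV) (hl.imp fun a b hab => (inf_le_inf_right a inf_le_left).trans hab)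

theorem inf_sup_le {O : L} {l l' : List L} (hl : List.Forall₂ (fun V V' => O ⊓ V ≤ V') l l') :
    O ⊓ sup l ≤ sup l' := by
  induction hl with
  | nil => exact inf_le_right
  | cons hV hl ih =>
    change O ⊓ (sup _ ⊔ _) ≤ sup _ ⊔ _
    rw [inf_sup_left]
    exact sup_le_sup ih hV

end Rel

namespace ZF

variable {C : Type u} [Category.{v} C] [Abelian C] (Z : ZF L C)

/-- Functoriality of the short exact sequence. -/
noncomputable def seMap {O U V O' U' V' : L} (h : O ≤ O') (hU : O ⊓ U ≤ U') (hV : O ⊓ V ≤ V') :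
    Z.sc O U V ⟶ Z.sc O' U' V' where
  τ₁ := Z.qm (le_inf (inf_le_left.trans h) hV) ((inf_le_inf_right U inf_le_left).trans hU)
  τ₂ := Z.qm h hU
  τ₃ := Z.qm h (by rw [inf_sup_left]; exact sup_le_sup hU hV)
  comm₁₂ := (Z.qm_qm (le_inf (inf_le_left.trans h) hV) ((inf_le_inf_right U inf_le_left).trans hU) inf_le_left
    inf_le_right).trans (Z.qm_qm inf_le_left inf_le_right h hU).symm
  comm₂₃ := (Z.qm_qm h hU (le_refl O') (inf_le_right.trans le_sup_left)).trans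
    (Z.qm_qm (le_refl O) (inf_le_right.trans le_sup_left) h
      (by rw [inf_sup_left]; exact sup_le_sup hU hV)).symm

section Cl

variable [HasExt.{w} C]

omit Z in
theorem comp_nat {X₁ X₃ Y₁ Y₃ F : C} (a : Ext X₃ X₁ 1) (b : Ext Y₃ Y₁ 1) (f₁ : X₁ ⟶ Y₁) (f₃ : X₃ ⟶ Y₃)
    (h : a.comp (Ext.mk₀ f₁) (add_zero 1) = (Ext.mk₀ f₃).comp b (zero_add 1)) {p q r r' : ℕ} (x : Ext Y₁ F p)
    (y : Ext X₁ F q) (hpq : 0 + p = q) (hy : (Ext.mk₀ f₁).comp x hpq = y) (h1 : 1 + p = r) (h2 : 0 + r = r')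
    (h3 : 1 + q = r') : (Ext.mk₀ f₃).comp (b.comp x h1) h2 = a.comp y h3 := by
  obtain rfl : p = q := by omega
  obtain rfl : r = r' := by omega
  rw [← hy, ← Ext.comp_assoc _ _ _ (zero_add 1) h1 (by omega), ← h,
    Ext.comp_assoc _ _ _ (add_zero 1) hpq (by omega)]

theorem ec_nat {O U V O' U' V' : L} (h : O ≤ O') (hU : O ⊓ U ≤ U') (hV : O ⊓ V ≤ V') :
    (Z.ec O U V).comp (Ext.mk₀ (Z.seMap h hU hV).τ₁) (add_zero 1) =
      (Ext.mk₀ (Z.seMap h hU hV).τ₃).comp (Z.ec O' U' V') (zero_add 1) :=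
  ShortComplex.ShortExact.extClass_naturality (Z.se O U V) (Z.se O' U' V') (Z.seMap h hU hV)

/-- **Functoriality of the classes.** -/
theorem qm_cl {F : C} {O O' : L} (h : O ≤ O') {l l' : List L}
    (hl : List.Forall₂ (fun V V' => O ⊓ V ≤ V') l l') (s : Z.Z (dd O' l') ⟶ F) :
    (Ext.mk₀ (Z.qm h (inf_sup_le hl))).comp (Z.cl l' O' s) (by rw [zero_add]; exact hl.length_eq.symm) =
      Z.cl l O (Z.m (dd_le_dd h hl) ≫ s) := by
  induction l generalizing O O' l' with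
  | nil =>
    cases hl
    change (Ext.mk₀ (Z.qm h (inf_le_right : O ⊓ ⊥ ≤ ⊥))).comp (Ext.mk₀ (Z.qd s (Z.m_bot_comp s))) (zero_add 0) =
      Ext.mk₀ (Z.qd (Z.m h ≫ s) (Z.m_bot_comp (Z.m h ≫ s)))
    refine (Ext.mk₀_comp_mk₀ _ _).trans (congrArg _ ?_)
    apply Z.q_ext
    exact (Z.pr_qm_assoc h (inf_le_right : O ⊓ ⊥ ≤ ⊥) _).trans
      ((congrArg _ (Z.pr_qd s (Z.m_bot_comp s))).trans (Z.pr_qd _ (Z.m_bot_comp (Z.m h ≫ s))).symm)
  | cons V l ih =>
    cases hl with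
    | cons hV hl =>
      rename_i V' l'
      have hh : O ⊓ V ≤ O' ⊓ V' := le_inf (inf_le_left.trans h) hV
      have hll : List.Forall₂ (fun W W' => (O ⊓ V) ⊓ W ≤ W') l l' :=
        hl.imp fun a b hab => (inf_le_inf_right a inf_le_left).trans hab
      have hlen := hl.length_eq
      exact comp_nat _ _ _ _ (Z.ec_nat h (inf_sup_le hl) hV) _ _ _ (ih hh hll s) (Nat.add_comm 1 l'.length)
        (show 0 + (l'.length + 1) = l.length + 1 by omega) (Nat.add_comm 1 l.length)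

theorem cl_head_eq_zero {F : C} (O V : L) (l : List L) (s : Z.Z (dd O l) ⟶ F) :
    Z.cl (V :: l) O (Z.m (dd_mono (inf_le_left : O ⊓ V ≤ O) l) ≫ s) = 0 := by
  have hl : List.Forall₂ (fun W W' => (O ⊓ V) ⊓ W ≤ W') l l := List.forall₂_same.2 fun W _ => inf_le_right
  have h := Z.qm_cl (inf_le_left : O ⊓ V ≤ O) hl s
  change (Z.ec O (sup l) V).comp (Z.cl l (O ⊓ V) (Z.m _ ≫ s)) (Nat.add_comm 1 l.length) = 0
  rw [← h]
  exact ShortComplex.ShortExact.extClass_comp_assoc (Z.se O (sup l) V) _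

omit [HasExt.{w} C] Z [OrderBot L] in
theorem dd_append_le (O V : L) (l₁ l₂ : List L) : dd O (l₁ ++ V :: l₂) ≤ dd O (l₁ ++ l₂) :=
  le_dd (dd_le _ _) fun W hW => dd_le_mem _ _ (by
    rcases List.mem_append.1 hW with h | h
    · exact List.mem_append_left _ h
    · exact List.mem_append_right _ (List.mem_cons_of_mem _ h))

/-- **Vanishing**: sections which extend to the intersection omitting one of the opens have class zero. -/
theorem cl_eq_zero {F : C} (O V : L) (l₁ l₂ : List L) (s : Z.Z (dd O (l₁ ++ l₂)) ⟶ F) :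
    Z.cl (l₁ ++ V :: l₂) O (Z.m (dd_append_le O V l₁ l₂) ≫ s) = 0 := by
  induction l₁ generalizing O with
  | nil => exact Z.cl_head_eq_zero O V l₂ s
  | cons W l₁ ih =>
    change (Z.ec O (sup (l₁ ++ V :: l₂)) W).comp (Z.cl (l₁ ++ V :: l₂) (O ⊓ W)
      (Z.m (dd_append_le (O ⊓ W) V l₁ l₂) ≫ s)) (Nat.add_comm 1 _) = 0
    rw [ih (O ⊓ W) s, Ext.comp_zero]

theorem subsingleton_of_iso {X Y F : C} (e : X ≅ Y) (n : ℕ) (h : Subsingleton (Ext Y F n)) :
    Subsingleton (Ext X F n) := by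
  refine ⟨fun a b => ?_⟩
  have key : ∀ a : Ext X F n, a = (Ext.mk₀ e.hom).comp ((Ext.mk₀ e.inv).comp a (zero_add n)) (zero_add n) := by
    intro a
    rw [← Ext.comp_assoc _ _ _ (zero_add 0) (zero_add n) (by omega), Ext.mk₀_comp_mk₀, e.hom_inv_id,
      Ext.mk₀_id_comp]
  rw [key a, key b, Subsingleton.elim ((Ext.mk₀ e.inv).comp a (zero_add n))]

omit [HasExt.{w} C] in
theorem isIso_pr_bot (O : L) : IsIso (Z.pr O ⊥) := by
  refine ⟨Z.qd (𝟙 _) (Z.m_bot_comp _), Z.pr_qd _ _, ?_⟩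
  apply Z.q_ext
  rw [pr_qd_assoc, Category.id_comp, Category.comp_id]

theorem van {F : C} (l : List L) (O : L)
    (h : ∀ T : List L, T.Sublist l → ∀ k, Subsingleton (Ext (Z.Z (dd O T)) F (k + 1))) (k : ℕ) :
    Subsingleton (Ext (Z.q O (sup l)) F (l.length + k + 1)) := by
  induction l generalizing O k with
  | nil =>
    have := Z.isIso_pr_bot O
    have h0 := h [] (List.Sublist.refl _) k
    have e : ([] : List L).length + k + 1 = k + 1 := by simp
    rw [e]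
    exact subsingleton_of_iso (asIso (Z.pr O ⊥)).symm _ h0
  | cons V l ih =>
    have h1 := ih O (fun T hT => h T (hT.cons V)) (k + 1)
    have h2 := ih (O ⊓ V) (fun T hT => h (V :: T) (hT.cons_cons V)) k
    have e1 : (V :: l).length + k + 1 = l.length + (k + 1) + 1 := by simp only [List.length_cons]; omega
    have e2 : 1 + (l.length + k + 1) = (V :: l).length + k + 1 := by simp only [List.length_cons]; omega
    rw [← e1] at h1
    refine subsingleton_of_forall_eq 0 fun x => ?_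
    obtain ⟨y, hy⟩ := Ext.contravariant_sequence_exact₃ (Z.se O (sup l) V) F x (Subsingleton.elim (h := h1) _ _) e2
    have hy0 : y = 0 := Subsingleton.elim (h := h2) _ _
    rw [← hy, hy0, Ext.comp_zero]
    rfl

theorem cl_surjective_nil {F : C} (O : L) (x : Ext (Z.q O ⊥) F 0) : ∃ s : Z.Z O ⟶ F, Z.cl [] O s = x := by
  obtain ⟨g, rfl⟩ := (Ext.mk₀_bijective (Z.q O ⊥) F).2 x
  exact ⟨Z.pr O ⊥ ≫ g, congrArg Ext.mk₀ (Z.q_ext (Z.pr_qd _ _))⟩

/-- **Surjectivity.** -/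
theorem cl_surjective {F : C} (l : List L) (O : L)
    (h : ∀ T : List L, T.Sublist l → ∀ k, Subsingleton (Ext (Z.Z (dd O T)) F (k + 1))) :
    Function.Surjective (Z.cl (F := F) l O) := by
  induction l generalizing O with
  | nil => exact Z.cl_surjective_nil O
  | cons V l ih =>
    intro x
    have h1 := Z.van l O (fun T hT => h T (hT.cons V)) 0
    obtain ⟨y, hy⟩ := Ext.contravariant_sequence_exact₃ (Z.se O (sup l) V) F x (Subsingleton.elim (h := h1) _ _)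
      (Nat.add_comm 1 l.length)
    obtain ⟨s, rfl⟩ := ih (O ⊓ V) (fun T hT => h (V :: T) (hT.cons_cons V)) y
    exact ⟨s, hy⟩

/-! ### Global classes -/

/-- An open set `O`, a list of opens and a closed set (complement of `N`) which in `O` is the complement of the
union of the list, and is contained in `O`; everything in `T`. -/
structure _root_.K644.Kap.Cov (L : Type*) [DistribLattice L] [OrderBot L] where
  T : L
  O : L
  N : L
  l : List L
  hO : O ≤ T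
  h1 : O ⊓ sup l ≤ N
  h2 : T ≤ O ⊔ N
  h3 : O ⊓ N ≤ sup l

/-- The excision isomorphism. -/
noncomputable def ex (c : Cov L) : Z.q c.O (sup c.l) ⟶ Z.q c.T c.N := Z.qm c.hO c.h1

instance (c : Cov L) : IsIso (Z.ex c) := Z.isIso_qm c.hO c.h1 c.h2 c.h3

/-- `Z T ⟶ q T N ≅ q O (sup l)`. -/
noncomputable def pex (c : Cov L) : Z.Z c.T ⟶ Z.q c.O (sup c.l) := Z.pr c.T c.N ≫ inv (Z.ex c)

/-- The class of a section, in `Ext^n (Z T, F)`. -/
noncomputable def gcl (c : Cov L) {F : C} : (Z.Z (dd c.O c.l) ⟶ F) →+ Ext (Z.Z c.T) F c.l.length :=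
  ((Ext.mk₀ (Z.pex c)).precomp F (zero_add _)).comp (Z.cl c.l c.O)

theorem gcl_def (c : Cov L) {F : C} (s : Z.Z (dd c.O c.l) ⟶ F) :
    Z.gcl c s = (Ext.mk₀ (Z.pex c)).comp (Z.cl c.l c.O s) (zero_add _) := rfl

theorem gcl_comp (c : Cov L) {F G : C} (φ : F ⟶ G) (s : Z.Z (dd c.O c.l) ⟶ F) :
    (Z.gcl c s).comp (Ext.mk₀ φ) (add_zero _) = Z.gcl c (s ≫ φ) := by
  rw [gcl_def, gcl_def, Ext.comp_assoc _ _ _ (zero_add _) (add_zero _) (by omega), cl_comp]

theorem gcl_mono {F : C} (c c' : Cov L) (hT : c.T ≤ c'.T) (h : c.O ≤ c'.O) (hN : c.T ⊓ c.N ≤ c'.N)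
    (hl : List.Forall₂ (fun V V' => c.O ⊓ V ≤ V') c.l c'.l) (s : Z.Z (dd c'.O c'.l) ⟶ F) :
    (Ext.mk₀ (Z.m hT)).comp (Z.gcl c' s) (by rw [zero_add]; exact hl.length_eq.symm) =
      Z.gcl c (Z.m (dd_le_dd h hl) ≫ s) := by
  have hp : Z.pex c ≫ Z.qm h (inf_sup_le hl) = Z.m hT ≫ Z.pex c' := by
    rw [← cancel_mono (Z.ex c'), pex, pex]
    have e1 : inv (Z.ex c) ≫ Z.qm h (inf_sup_le hl) ≫ Z.ex c' = Z.qm hT hN := by
      rw [IsIso.inv_comp_eq]
      exact (Z.qm_qm _ _ _ _).trans (Z.qm_qm _ _ _ _).symm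
    rw [Category.assoc, Category.assoc, e1, pr_qm, Category.assoc, Category.assoc, IsIso.inv_hom_id,
      Category.comp_id]
  have hlen := hl.length_eq
  rw [gcl_def, gcl_def, ← Z.qm_cl h hl s, ← Ext.comp_assoc _ _ _ (zero_add 0) _ (by omega),
    ← Ext.comp_assoc _ _ _ (zero_add 0) _ (by omega), Ext.mk₀_comp_mk₀, Ext.mk₀_comp_mk₀, hp]

theorem gcl_eq_zero {F : C} (c : Cov L) {V : L} {l₁ l₂ : List L} (h : c.l = l₁ ++ V :: l₂)
    (s : Z.Z (dd c.O (l₁ ++ l₂)) ⟶ F) (hd : dd c.O c.l ≤ dd c.O (l₁ ++ l₂)) : Z.gcl c (Z.m hd ≫ s) = 0 := by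
  obtain ⟨T, O, N, l, hO, h1, h2, h3⟩ := c
  obtain rfl := h
  rw [gcl_def]
  have := Z.cl_eq_zero O V l₁ l₂ s
  exact (congrArg (fun t => (Ext.mk₀ (Z.pex _)).comp t (zero_add _)) this).trans (Ext.comp_zero _ _ _ _ _)

/-- The classes exhaust `Ext^n (Z T, F)` if `F` is acyclic on the members of the cover and `Ext^n (Z N, F) = 0`. -/
theorem gcl_surjective {F : C} (c : Cov L) (hN : c.N ≤ c.T)
    (h : ∀ T : List L, T.Sublist c.l → ∀ k, Subsingleton (Ext (Z.Z (dd c.O T)) F (k + 1)))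
    (h0 : Subsingleton (Ext (Z.Z c.N) F c.l.length)) : Function.Surjective (Z.gcl (F := F) c) := by
  intro x
  have hN' : c.N = c.T ⊓ c.N := (inf_eq_right.2 hN).symm
  let S : ShortComplex C := ShortComplex.mk (Z.m (inf_le_left : c.T ⊓ c.N ≤ c.T)) (Z.pr c.T c.N) (Z.m_pr _ _)
  have hS : S.ShortExact :=
    { exact := ShortComplex.exact_cokernel _
      mono_f := Z.mono _
      epi_g := inferInstanceAs (Epi (Z.pr c.T c.N)) }
  have h0' : Subsingleton (Ext S.X₁ F c.l.length) := by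
    have := Z.isIso_m hN'
    exact subsingleton_of_iso (asIso (Z.m hN'.le)).symm _ h0
  obtain ⟨y, hy⟩ := Ext.contravariant_sequence_exact₂ hS F x (Subsingleton.elim (h := h0') _ _)
  obtain ⟨s, hs⟩ := Z.cl_surjective c.l c.O h ((Ext.mk₀ (Z.ex c)).comp y (zero_add _))
  refine ⟨s, ?_⟩
  rw [gcl_def, hs, ← Ext.comp_assoc _ _ _ (zero_add 0) (zero_add _) (by omega), Ext.mk₀_comp_mk₀, pex,
    Category.assoc, IsIso.inv_hom_id, Category.comp_id]
  exact hy

end Cl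

end ZF

end K644.Kap
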