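import Groth.Agent.DeRhamSh.K644.Kap

/-!
# Classes of generalized fractions: compatibility with exact functors
-/

set_option autoImplicit false

open CategoryTheory CategoryTheory.Limits CategoryTheory.Abelian

universe w w' v u v' u'

namespace K644.Kap

variable {L : Type*} [DistribLattice L] [OrderBot L] {L' : Type*} [DistribLattice L'] [OrderBot L']
variable {C : Type u} [Category.{v} C] [Abelian C] {C' : Type u'} [Category.{v'} C'] [Abelian C']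

/-- A morphism of systems along an exact functor (inverse image). -/
structure Sm (Z : ZF L C) (Z' : ZF L' C') (Φ : C ⥤ C') where
  φ : L → L'
  mono : Monotone φ
  inf : ∀ U V, φ U ⊓ φ V ≤ φ (U ⊓ V)
  α : ∀ U, Z'.Z (φ U) ⟶ Φ.obj (Z.Z U)
  nat : ∀ {U V : L} (h : U ≤ V), Z'.m (mono h) ≫ α V = α U ≫ Φ.map (Z.m h)

namespace Sm

variable {Z : ZF L C} {Z' : ZF L' C'} {Φ : C ⥤ C'} (σ : Sm Z Z' Φ)

/-- `Z' U' ⟶ Φ (Z U)` for `U' ≤ φ U`. -/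
noncomputable def a {U' : L'} {U : L} (h : U' ≤ σ.φ U) : Z'.Z U' ⟶ Φ.obj (Z.Z U) := Z'.m h ≫ σ.α U

@[reassoc]
theorem m_a {V' U' : L'} {U : L} (h' : V' ≤ U') (h : U' ≤ σ.φ U) : Z'.m h' ≫ σ.a h = σ.a (h'.trans h) := by
  rw [a, a, ZF.m_m_assoc]

@[reassoc]
theorem a_m {U' : L'} {U V : L} (h : U' ≤ σ.φ U) (h' : U ≤ V) : σ.a h ≫ Φ.map (Z.m h') = σ.a (h.trans (σ.mono h')) := by
  rw [a, a, Category.assoc, ← σ.nat, ZF.m_m_assoc]

theorem le_inf {U' V' : L'} {U V : L} (h : U' ≤ σ.φ U) (h' : U' ⊓ V' ≤ σ.φ V) : U' ⊓ V' ≤ σ.φ (U ⊓ V) :=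
  (_root_.le_inf (inf_le_left.trans h) h').trans (σ.inf U V)

variable [Φ.Additive]

/-- The map on quotients. -/
noncomputable def qa {O' U' : L'} {O U : L} (h : O' ≤ σ.φ O) (h' : O' ⊓ U' ≤ σ.φ U) :
    Z'.q O' U' ⟶ Φ.obj (Z.q O U) :=
  Z'.qd (σ.a h ≫ Φ.map (Z.pr O U)) (by
    rw [m_a_assoc]
    have : σ.a (inf_le_left.trans h : O' ⊓ U' ≤ σ.φ O) = σ.a (σ.le_inf h h') ≫ Φ.map (Z.m inf_le_left) :=
      (σ.a_m _ _).symm
    rw [this, Category.assoc, ← Φ.map_comp, ZF.m_pr, Φ.map_zero, comp_zero])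

@[reassoc (attr := simp)]
theorem pr_qa {O' U' : L'} {O U : L} (h : O' ≤ σ.φ O) (h' : O' ⊓ U' ≤ σ.φ U) :
    Z'.pr O' U' ≫ σ.qa h h' = σ.a h ≫ Φ.map (Z.pr O U) := Z'.pr_qd _ _

theorem qm_qa {O' U' P' W' : L'} {O U : L} (k : P' ≤ O') (k' : P' ⊓ W' ≤ U') (h : O' ≤ σ.φ O) (h' : O' ⊓ U' ≤ σ.φ U) :
    Z'.qm k k' ≫ σ.qa h h' = σ.qa (k.trans h) ((_root_.le_inf (inf_le_left.trans k) k').trans h') := by
  apply Z'.q_ext
  rw [ZF.pr_qm_assoc, pr_qa, pr_qa, m_a_assoc]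

theorem qa_qm {O' U' : L'} {O U P W : L} (h : O' ≤ σ.φ O) (h' : O' ⊓ U' ≤ σ.φ U) (k : O ≤ P) (k' : O ⊓ U ≤ W) :
    σ.qa h h' ≫ Φ.map (Z.qm k k') = σ.qa (h.trans (σ.mono k)) ((σ.le_inf h h').trans (σ.mono k')) := by
  apply Z'.q_ext
  rw [pr_qa_assoc, pr_qa, ← Φ.map_comp, ZF.pr_qm, Φ.map_comp, a_m_assoc]

omit [Φ.Additive] in
theorem le_sup {O' U' V' : L'} {U V : L} (h : O' ⊓ U' ≤ σ.φ U) (h' : O' ⊓ V' ≤ σ.φ V) : O' ⊓ (U' ⊔ V') ≤ σ.φ (U ⊔ V) := by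
  rw [inf_sup_left]
  exact _root_.sup_le (h.trans (σ.mono le_sup_left)) (h'.trans (σ.mono le_sup_right))

/-- The map of short exact sequences. -/
noncomputable def seMap [PreservesFiniteLimits Φ] [PreservesFiniteColimits Φ] {O' U' V' : L'} {O U V : L}
    (h : O' ≤ σ.φ O) (hU : O' ⊓ U' ≤ σ.φ U) (hV : O' ⊓ V' ≤ σ.φ V) : Z'.sc O' U' V' ⟶ (Z.sc O U V).map Φ where
  τ₁ := σ.qa (σ.le_inf h hV) ((inf_le_inf_right U' inf_le_left).trans hU)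
  τ₂ := σ.qa h hU
  τ₃ := σ.qa h (σ.le_sup hU hV)
  comm₁₂ := (σ.qa_qm (σ.le_inf h hV) ((inf_le_inf_right U' inf_le_left).trans hU) inf_le_left inf_le_right).trans
    (σ.qm_qa inf_le_left inf_le_right h hU).symm
  comm₂₃ := (σ.qa_qm h hU (le_refl O) (inf_le_right.trans le_sup_left)).trans
    (σ.qm_qa (le_refl O') (inf_le_right.trans le_sup_left) h (σ.le_sup hU hV)).symm

omit [Φ.Additive] in
theorem dd_le {O' : L'} {O : L} (h : O' ≤ σ.φ O) {l' : List L'} {l : List L}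
    (hl : List.Forall₂ (fun V' V => O' ⊓ V' ≤ σ.φ V) l' l) : dd O' l' ≤ σ.φ (dd O l) := by
  induction l' generalizing O O' l with
  | nil => cases hl; exact h
  | cons V' l' ih =>
    cases hl with
    | cons hV hl => exact ih (σ.le_inf h hV) (hl.imp fun a b hab => (inf_le_inf_right a inf_le_left).trans hab)

omit [Φ.Additive] in
theorem inf_sup_le {O' : L'} {l' : List L'} {l : List L}
    (hl : List.Forall₂ (fun V' V => O' ⊓ V' ≤ σ.φ V) l' l) : O' ⊓ sup l' ≤ σ.φ (sup l) := by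
  induction hl with
  | nil => exact inf_le_right.trans bot_le
  | cons hV hl ih =>
    change O' ⊓ (sup _ ⊔ _) ≤ σ.φ (sup _ ⊔ _)
    rw [inf_sup_left]
    exact _root_.sup_le (ih.trans (σ.mono le_sup_left)) (hV.trans (σ.mono le_sup_right))

variable [PreservesFiniteLimits Φ] [PreservesFiniteColimits Φ] [HasExt.{w} C] [HasExt.{w'} C']

theorem ec_nat {O' U' V' : L'} {O U V : L}
    (h : O' ≤ σ.φ O) (hU : O' ⊓ U' ≤ σ.φ U) (hV : O' ⊓ V' ≤ σ.φ V) :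
    (Z'.ec O' U' V').comp (Ext.mk₀ (σ.seMap h hU hV).τ₁) (add_zero 1) =
      (Ext.mk₀ (σ.seMap h hU hV).τ₃).comp (Ext.mapExactFunctor Φ (Z.ec O U V)) (zero_add 1) := by
  refine (ShortComplex.ShortExact.extClass_naturality (Z'.se O' U' V') ((Z.se O U V).map_of_exact Φ)
    (σ.seMap h hU hV)).trans ?_
  exact congrArg (fun t => (Ext.mk₀ (σ.seMap h hU hV).τ₃).comp t (zero_add 1))
    (Ext.mapExactFunctor_extClass Φ (Z.se O U V)).symm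

/-- **Compatibility of the classes with exact functors.** -/
theorem qa_cl {F : C} {O' : L'} {O : L} (h : O' ≤ σ.φ O) {l' : List L'} {l : List L}
    (hl : List.Forall₂ (fun V' V => O' ⊓ V' ≤ σ.φ V) l' l) (s : Z.Z (dd O l) ⟶ F) :
    (Ext.mk₀ (σ.qa h (σ.inf_sup_le hl))).comp (Ext.mapExactFunctor Φ (Z.cl l O s))
      (by rw [zero_add]; exact hl.length_eq.symm) = Z'.cl l' O' (σ.a (σ.dd_le h hl) ≫ Φ.map s) := by
  induction l' generalizing O O' l with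
  | nil =>
    cases hl
    change (Ext.mk₀ (σ.qa h (inf_le_right.trans bot_le : O' ⊓ ⊥ ≤ σ.φ ⊥))).comp
      (Ext.mapExactFunctor Φ (Ext.mk₀ (Z.qd s (Z.m_bot_comp s)))) (zero_add 0) =
      Ext.mk₀ (Z'.qd (σ.a h ≫ Φ.map s) (Z'.m_bot_comp (σ.a h ≫ Φ.map s)))
    rw [Ext.mapExactFunctor_mk₀]
    refine (Ext.mk₀_comp_mk₀ _ _).trans (congrArg _ ?_)
    apply Z'.q_ext
    refine (σ.pr_qa_assoc h (inf_le_right.trans bot_le : O' ⊓ ⊥ ≤ σ.φ ⊥) _).trans ?_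
    rw [← Φ.map_comp]
    refine (congrArg (fun t => σ.a h ≫ Φ.map t) (Z.pr_qd s (Z.m_bot_comp s))).trans ?_
    exact (Z'.pr_qd _ (Z'.m_bot_comp (σ.a h ≫ Φ.map s))).symm
  | cons V' l' ih =>
    cases hl with
    | cons hV hl =>
      rename_i V l
      have hh : O' ⊓ V' ≤ σ.φ (O ⊓ V) := σ.le_inf h hV
      have hll : List.Forall₂ (fun W' W => (O' ⊓ V') ⊓ W' ≤ σ.φ W) l' l :=
        hl.imp fun a b hab => (inf_le_inf_right a inf_le_left).trans hab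
      have hlen := hl.length_eq
      have h1 := ih hh hll s
      have h2 := ZF.comp_nat _ _ _ _ (σ.ec_nat h (σ.inf_sup_le hl) hV) _ _ _ h1 (Nat.add_comm 1 l.length)
        (show 0 + (l.length + 1) = l'.length + 1 by omega) (Nat.add_comm 1 l'.length)
      refine Eq.trans ?_ h2
      change (Ext.mk₀ _).comp (Ext.mapExactFunctor Φ ((Z.ec O (sup l) V).comp (Z.cl l (O ⊓ V) s)
        (Nat.add_comm 1 l.length))) _ = _
      rw [Ext.mapExactFunctor_comp]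
      rfl

theorem pex_qa {c' : Cov L'} {c : Cov L} (hT : c'.T ≤ σ.φ c.T) (h : c'.O ≤ σ.φ c.O) (hN : c'.T ⊓ c'.N ≤ σ.φ c.N)
    (hs : c'.O ⊓ sup c'.l ≤ σ.φ (sup c.l)) :
    Z'.pex c' ≫ σ.qa h hs = σ.a hT ≫ Φ.map (Z.pex c) := by
  rw [← cancel_mono (Φ.map (Z.ex c)), Category.assoc, Category.assoc, ← Φ.map_comp, ZF.pex, ZF.pex, Category.assoc,
    Category.assoc, IsIso.inv_hom_id, Category.comp_id]
  have e1 : σ.qa h hs ≫ Φ.map (Z.ex c) = Z'.ex c' ≫ σ.qa hT hN :=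
    (σ.qa_qm _ _ _ _).trans (σ.qm_qa _ _ _ _).symm
  rw [e1, IsIso.inv_hom_id_assoc, pr_qa]

theorem gcl_pull {F : C} {c' : Cov L'} {c : Cov L} (hT : c'.T ≤ σ.φ c.T) (h : c'.O ≤ σ.φ c.O)
    (hN : c'.T ⊓ c'.N ≤ σ.φ c.N) (hl : List.Forall₂ (fun V' V => c'.O ⊓ V' ≤ σ.φ V) c'.l c.l)
    (s : Z.Z (dd c.O c.l) ⟶ F) :
    (Ext.mk₀ (σ.a hT)).comp (Ext.mapExactFunctor Φ (Z.gcl c s)) (by rw [zero_add]; exact hl.length_eq.symm) =
      Z'.gcl c' (σ.a (σ.dd_le h hl) ≫ Φ.map s) := by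
  have hlen := hl.length_eq
  rw [ZF.gcl_def, ZF.gcl_def, ← σ.qa_cl h hl s, Ext.mapExactFunctor_comp, Ext.mapExactFunctor_mk₀,
    ← Ext.comp_assoc _ _ _ (zero_add 0) _ (by omega), ← Ext.comp_assoc _ _ _ (zero_add 0) _ (by omega),
    Ext.mk₀_comp_mk₀, Ext.mk₀_comp_mk₀, σ.pex_qa hT h hN]

end Sm

end K644.Kap
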